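import Cfsg.Agent.SL2Pres.Concrete
import Cfsg.Agent.SLnPres.Basic
import Cfsg.Agent.Sp4Pres.Concrete

/-!
# Standard homomorphisms into symplectic groups
-/

set_option autoImplicit false

namespace CfsgLib.SpnPres

open Matrix CfsgLib.SL2Pres CfsgLib.SLnPres

variable {ι κ F : Type*} [Fintype ι] [DecidableEq ι] [Fintype κ] [DecidableEq κ] [Field F]

/-- The Levi subgroup. -/
def levi : Matrix.SpecialLinearGroup ι F →* Matrix.symplecticGroup ι F where
  toFun g := ⟨fromBlocks g.1 0 0 (g⁻¹).1ᵀ, by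
    rw [SymplecticGroup.fromBlocks_mem_iff]
    refine ⟨by simp, by simp, ?_⟩
    rw [← Matrix.transpose_mul, ← Matrix.SpecialLinearGroup.coe_mul, inv_mul_cancel]
    simp⟩
  map_one' := by apply Subtype.ext; simp
  map_mul' g h := by
    apply Subtype.ext
    change fromBlocks (g * h).1 0 0 ((g * h)⁻¹).1ᵀ = fromBlocks g.1 0 0 (g⁻¹).1ᵀ * fromBlocks h.1 0 0 (h⁻¹).1ᵀ
    simp [fromBlocks_multiply, _root_.mul_inv_rev]

theorem coe_levi (g : Matrix.SpecialLinearGroup ι F) :
    (levi g : Matrix.symplecticGroup ι F).1 = fromBlocks g.1 0 0 (g⁻¹).1ᵀ := rfl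

/-- The Siegel unipotent radical. -/
def up (S : Matrix ι ι F) (h : Sᵀ = S) : Matrix.symplecticGroup ι F :=
  ⟨fromBlocks 1 S 0 1, by rw [SymplecticGroup.fromBlocks_mem_iff]; simp [h]⟩

/-- The diagonal with one entry changed. -/
def dOne (i : ι) (a : F) : ι → F := Function.update 1 i a

theorem dOne_apply (i k : ι) (a : F) : dOne i a k = if k = i then a else 1 := by
  simp [dOne, Function.update_apply]

theorem det_sl2 (g : Matrix.SpecialLinearGroup (Fin 2) F) : g.1 0 0 * g.1 1 1 - g.1 0 1 * g.1 1 0 = 1 :=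
  CfsgLib.Sp4Pres.det_eq g

/-- The `SL₂` of the long root at `i`. -/
def embLong (i : ι) : Matrix.SpecialLinearGroup (Fin 2) F →* Matrix.symplecticGroup ι F where
  toFun g := ⟨fromBlocks (diagonal (dOne i (g.1 0 0))) (diagonal (Pi.single i (g.1 0 1)))
      (diagonal (Pi.single i (g.1 1 0))) (diagonal (dOne i (g.1 1 1))), by
    have h := det_sl2 g
    rw [SymplecticGroup.fromBlocks_mem_iff]
    simp only [diagonal_transpose, diagonal_mul_diagonal, diagonal_sub, ← diagonal_one, diagonal_eq_diagonal_iff]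
    refine ⟨fun k => ?_, fun k => ?_, fun k => ?_⟩ <;>
      by_cases hk : k = i <;> simp [dOne_apply, hk] <;> first | linear_combination h | ring1⟩
  map_one' := by
    apply Subtype.ext
    rw [Submonoid.coe_one, ← fromBlocks_one]
    simp [dOne]
  map_mul' g h := by
    apply Subtype.ext
    change fromBlocks (diagonal (dOne i ((g * h).1 0 0))) (diagonal (Pi.single i ((g * h).1 0 1)))
      (diagonal (Pi.single i ((g * h).1 1 0))) (diagonal (dOne i ((g * h).1 1 1))) =
      fromBlocks (diagonal (dOne i (g.1 0 0))) (diagonal (Pi.single i (g.1 0 1)))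
      (diagonal (Pi.single i (g.1 1 0))) (diagonal (dOne i (g.1 1 1))) *
      fromBlocks (diagonal (dOne i (h.1 0 0))) (diagonal (Pi.single i (h.1 0 1)))
      (diagonal (Pi.single i (h.1 1 0))) (diagonal (dOne i (h.1 1 1)))
    rw [fromBlocks_multiply]
    simp only [diagonal_mul_diagonal, diagonal_add, fromBlocks_inj, diagonal_eq_diagonal_iff]
    refine ⟨fun k => ?_, fun k => ?_, fun k => ?_, fun k => ?_⟩ <;>
      by_cases hk : k = i <;> simp [dOne_apply, hk, Matrix.mul_apply, Fin.sum_univ_two]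

theorem coe_embLong (i : ι) (g : Matrix.SpecialLinearGroup (Fin 2) F) :
    (embLong i g : Matrix.symplecticGroup ι F).1 =
      fromBlocks (diagonal (dOne i (g.1 0 0))) (diagonal (Pi.single i (g.1 0 1)))
        (diagonal (Pi.single i (g.1 1 0))) (diagonal (dOne i (g.1 1 1))) := rfl

/-- Reindexing. -/
def reindexSp (e : ι ≃ κ) : Matrix.symplecticGroup ι F →* Matrix.symplecticGroup κ F where
  toFun M := ⟨M.1.submatrix (e.sumCongr e).symm (e.sumCongr e).symm, by
    have hJ : (Matrix.J ι F).submatrix (e.sumCongr e).symm (e.sumCongr e).symm = Matrix.J κ F := by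
      ext (a | a) (b | b) <;> simp [Matrix.J, Matrix.one_apply]
    rw [SymplecticGroup.mem_iff, ← hJ, Matrix.submatrix_mul_equiv, Matrix.transpose_submatrix,
      Matrix.submatrix_mul_equiv, SymplecticGroup.mem_iff.1 M.2]⟩
  map_one' := by apply Subtype.ext; simp
  map_mul' M N := by
    apply Subtype.ext
    exact (Matrix.submatrix_mul_equiv M.1 N.1 _ _ _).symm

theorem coe_reindexSp (e : ι ≃ κ) (M : Matrix.symplecticGroup ι F) :
    (reindexSp e M).1 = M.1.submatrix (e.sumCongr e).symm (e.sumCongr e).symm := rfl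

/-- Symplectic groups on part of the index set. -/
def blockSp : Matrix.symplecticGroup κ F →* Matrix.symplecticGroup (κ ⊕ ι) F where
  toFun M := ⟨fromBlocks (fromBlocks M.1.toBlocks₁₁ 0 0 1) (fromBlocks M.1.toBlocks₁₂ 0 0 0)
      (fromBlocks M.1.toBlocks₂₁ 0 0 0) (fromBlocks M.1.toBlocks₂₂ 0 0 1), by
    have h := M.2
    rw [← fromBlocks_toBlocks M.1, SymplecticGroup.fromBlocks_mem_iff] at h
    rw [SymplecticGroup.fromBlocks_mem_iff]
    refine ⟨by simp [fromBlocks_transpose, fromBlocks_multiply, h.1],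
      by simp [fromBlocks_transpose, fromBlocks_multiply, h.2.1], ?_⟩
    simp only [fromBlocks_transpose, fromBlocks_multiply, Matrix.transpose_zero, Matrix.transpose_one,
      Matrix.mul_zero, Matrix.zero_mul, Matrix.mul_one, add_zero, zero_add]
    ext (a | a) (b | b)
    · have := congrFun (congrFun h.2.2 a) b
      simpa [Matrix.one_apply] using this
    all_goals simp [Matrix.one_apply]⟩
  map_one' := by
    apply Subtype.ext
    have e : ∀ M : Matrix (κ ⊕ κ) (κ ⊕ κ) F, M = 1 → M.toBlocks₁₁ = 1 ∧ M.toBlocks₁₂ = 0 ∧ M.toBlocks₂₁ = 0 ∧ M.toBlocks₂₂ = 1 := by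
      rintro M rfl
      rw [← fromBlocks_one]
      simp only [toBlocks_fromBlocks₁₁, toBlocks_fromBlocks₁₂, toBlocks_fromBlocks₂₁, toBlocks_fromBlocks₂₂, and_self]
    obtain ⟨e1, e2, e3, e4⟩ := e _ (Submonoid.coe_one _)
    show fromBlocks _ _ _ _ = (1 : Matrix ((κ ⊕ ι) ⊕ (κ ⊕ ι)) ((κ ⊕ ι) ⊕ (κ ⊕ ι)) F)
    rw [e1, e2, e3, e4]
    simp
  map_mul' M N := by
    apply Subtype.ext
    change _ = fromBlocks _ _ _ _ * fromBlocks _ _ _ _
    have : (M * N).1 = fromBlocks (M.1.toBlocks₁₁ * N.1.toBlocks₁₁ + M.1.toBlocks₁₂ * N.1.toBlocks₂₁)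
        (M.1.toBlocks₁₁ * N.1.toBlocks₁₂ + M.1.toBlocks₁₂ * N.1.toBlocks₂₂)
        (M.1.toBlocks₂₁ * N.1.toBlocks₁₁ + M.1.toBlocks₂₂ * N.1.toBlocks₂₁)
        (M.1.toBlocks₂₁ * N.1.toBlocks₁₂ + M.1.toBlocks₂₂ * N.1.toBlocks₂₂) := by
      rw [← fromBlocks_multiply, fromBlocks_toBlocks, fromBlocks_toBlocks]; rfl
    simp [this, fromBlocks_multiply, fromBlocks_add]

theorem coe_blockSp (M : Matrix.symplecticGroup κ F) :
    (blockSp (ι := ι) M).1 = fromBlocks (fromBlocks M.1.toBlocks₁₁ 0 0 1) (fromBlocks M.1.toBlocks₁₂ 0 0 0)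
      (fromBlocks M.1.toBlocks₂₁ 0 0 0) (fromBlocks M.1.toBlocks₂₂ 0 0 1) := rfl

variable {k : ℕ}

/-- The first two indices apart. -/
def eTwo (k : ℕ) : Fin 2 ⊕ Fin (k + 1) ≃ Fin (k + 3) := finSumFinEquiv.trans (finCongr (by omega))

theorem eTwo_inl (a : Fin 2) : (eTwo k (Sum.inl a)).val = a.val := rfl

theorem eTwo_inr (a : Fin (k + 1)) : (eTwo k (Sum.inr a)).val = 2 + a.val := rfl

/-- `SL₂` on the first two coordinates. -/
def blk : Matrix.SpecialLinearGroup (Fin 2) F →* Matrix.SpecialLinearGroup (Fin (k + 3)) F where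
  toFun g := ⟨(blockEmb (ι := Fin (k + 1)) g).1.submatrix (eTwo k).symm (eTwo k).symm, by
    rw [Matrix.det_submatrix_equiv_self]; exact (blockEmb (ι := Fin (k + 1)) g).2⟩
  map_one' := by apply Subtype.ext; simp
  map_mul' g h := by
    apply Subtype.ext
    change (blockEmb (ι := Fin (k + 1)) (g * h)).1.submatrix _ _ = (blockEmb (ι := Fin (k + 1)) g).1.submatrix (eTwo k).symm (eTwo k).symm * (blockEmb (ι := Fin (k + 1)) h).1.submatrix (eTwo k).symm (eTwo k).symm
    rw [Matrix.submatrix_mul_equiv, ← Matrix.SpecialLinearGroup.coe_mul, map_mul]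

theorem blk_apply (g : Matrix.SpecialLinearGroup (Fin 2) F) (a b : Fin (k + 3)) :
    (blk g : Matrix.SpecialLinearGroup (Fin (k + 3)) F).1 a b =
      if h : a.val < 2 ∧ b.val < 2 then g.1 ⟨a, h.1⟩ ⟨b, h.2⟩ else if a = b then 1 else 0 := by
  obtain ⟨a, rfl⟩ := (eTwo k).surjective a
  obtain ⟨b, rfl⟩ := (eTwo k).surjective b
  show fromBlocks g.1 0 0 (1 : Matrix (Fin (k + 1)) (Fin (k + 1)) F) ((eTwo k).symm (eTwo k a)) ((eTwo k).symm (eTwo k b)) = _
  rw [Equiv.symm_apply_apply, Equiv.symm_apply_apply]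
  rcases a with a | a <;> rcases b with b | b <;>
    simp [eTwo_inl, eTwo_inr, Fin.ext_iff, Matrix.one_apply] <;> omega

/-- `Sp₄` on the first two coordinates. -/
def embTwo : Matrix.symplecticGroup (Fin 2) F →* Matrix.symplecticGroup (Fin (k + 3)) F :=
  (reindexSp (eTwo k)).comp blockSp

end CfsgLib.SpnPres
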