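import Cfsg.Agent.SpnPres.Facts
import Cfsg.Agent.Forms4.SymplecticSimple

/-!
# Generation of the symplectic group by Levi, Siegel radical and one sign change
-/

set_option autoImplicit false

namespace CfsgLib.SpnPres

open Matrix CfsgLib.SL2Pres CfsgLib.SLnPres

variable {F : Type*} [Field F] {m : ℕ}

/-- An element of `SL` with prescribed first row. -/
theorem exists_row (y : Fin (m + 2) → F) (hy : y 0 ≠ 0) :
    ∃ g : Matrix.SpecialLinearGroup (Fin (m + 2)) F, ∀ b, g.1 0 b = y b := by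
  let M : Matrix (Fin (m + 2)) (Fin (m + 2)) F := Matrix.of fun a b =>
    if a = 0 then y b else if a = b then (if a = 1 then (y 0)⁻¹ else 1) else 0
  have hM : M.BlockTriangular id := by
    intro a b hab
    have hab' : b < a := hab
    have ha : a ≠ 0 := (lt_of_le_of_lt (Fin.zero_le b) hab').ne'
    simp [M, ha, hab'.ne']
  refine ⟨⟨M, ?_⟩, fun b => by simp [M]⟩
  rw [Matrix.det_of_isUpperTriangular hM, Fin.prod_univ_succ, Fin.prod_univ_succ]
  have h : ∀ a : Fin m, M a.succ.succ a.succ.succ = 1 := fun a => by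
    have h1 : a.succ.succ ≠ (1 : Fin (m + 2)) := by
      rw [← Fin.succ_zero_eq_one]; exact (Fin.succ_injective _).ne (Fin.succ_ne_zero _)
    simp [M, Fin.succ_ne_zero, h1]
  simp only [h, Finset.prod_const_one, mul_one]
  simp [M, hy]

theorem sp_comp (A B : Matrix.symplecticGroup (Fin (m + 2)) F) (x : Fin (m + 2) ⊕ Fin (m + 2) → F) :
    (A * B).1 *ᵥ x = A.1 *ᵥ (B.1 *ᵥ x) := by rw [Submonoid.coe_mul, Matrix.mulVec_mulVec]

/-- Levi, radical and one sign change give everything. -/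
theorem sp_eq_top (H : Subgroup (Matrix.symplecticGroup (Fin (m + 2)) F)) (hlevi : ∀ g, levi g ∈ H)
    (hup : ∀ S h, up S h ∈ H) (i : Fin (m + 2)) (hs : embLong i wW ∈ H) : H = ⊤ := by
  have mv : ∀ v : Fin (m + 2) → F, v ≠ 0 → ∀ a, ∃ g : Matrix.SpecialLinearGroup (Fin (m + 2)) F, (g.1 *ᵥ v) a ≠ 0 := by
    intro v hv a
    obtain ⟨b, hb⟩ := Function.ne_iff.1 hv
    obtain ⟨h, hh⟩ : ∃ g : Matrix.SpecialLinearGroup (Fin (m + 2)) F, IsMon g (Equiv.swap b a) _ :=
      ⟨_, isMon_monOf (Equiv.swap b a) b⟩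
    refine ⟨h, ?_⟩
    rw [Matrix.mulVec, dotProduct, Finset.sum_eq_single b]
    · rw [hh.eq, Equiv.swap_apply_left, if_pos rfl]
      exact mul_ne_zero (hh.ne b) hb
    · intro c _ hc
      rw [hh.eq, if_neg, zero_mul]
      rw [Equiv.swap_apply_eq_iff, Equiv.swap_apply_right]
      exact hc
    · simp
  set tgt : Fin (m + 2) ⊕ Fin (m + 2) → F := Sum.elim 0 (Pi.single 0 1) with htgt
  have h3 : ∀ x, ∃ g ∈ H, g.1 *ᵥ Sum.elim x (Pi.single 0 1) = tgt := by
    intro x
    let S : Matrix (Fin (m + 2)) (Fin (m + 2)) F := Matrix.of fun a b =>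
      if b = 0 then -x a else if a = 0 then -x b else 0
    have hS : Sᵀ = S := by
      ext a b
      by_cases ha : a = 0 <;> by_cases hb : b = 0 <;> simp [S, ha, hb]
    refine ⟨up S hS, hup _ _, ?_⟩
    show fromBlocks 1 S 0 1 *ᵥ _ = _
    rw [fromBlocks_mulVec, htgt]
    funext a
    rcases a with a | a <;> simp [S, Matrix.mulVec, dotProduct, Pi.single_apply, Matrix.one_apply]
  have h2 : ∀ x y, y ≠ 0 → ∃ g ∈ H, g.1 *ᵥ Sum.elim x y = tgt := by
    intro x y hy
    obtain ⟨g₀, h0⟩ : ∃ g : Matrix.SpecialLinearGroup (Fin (m + 2)) F, ((g⁻¹).1ᵀ *ᵥ y) 0 ≠ 0 := by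
      obtain ⟨g, hg⟩ := mv y hy 0
      refine ⟨(g.transpose)⁻¹, ?_⟩
      rw [inv_inv]
      simpa using hg
    set y₀ := (g₀⁻¹).1ᵀ *ᵥ y
    obtain ⟨g, hg⟩ := exists_row y₀ h0
    have hge : (g⁻¹).1ᵀ *ᵥ y₀ = Pi.single 0 1 := by
      have : y₀ = g.1ᵀ *ᵥ Pi.single 0 1 := by
        funext b
        rw [Matrix.mulVec_single_one]
        exact (hg b).symm
      rw [this, Matrix.mulVec_mulVec, ← Matrix.transpose_mul, ← Matrix.SpecialLinearGroup.coe_mul, mul_inv_cancel,
        Matrix.SpecialLinearGroup.coe_one, Matrix.transpose_one, Matrix.one_mulVec]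
    obtain ⟨g', hg', hge'⟩ := h3 ((g * g₀).1 *ᵥ x)
    refine ⟨g' * levi (g * g₀), mul_mem hg' (hlevi _), ?_⟩
    rw [sp_comp, coe_levi, fromBlocks_mulVec, ← hge']
    simp only [Sum.elim_comp_inl, Sum.elim_comp_inr, Matrix.zero_mulVec, add_zero, zero_add, _root_.mul_inv_rev,
      Matrix.SpecialLinearGroup.coe_mul, Matrix.transpose_mul]
    rw [← Matrix.mulVec_mulVec y, hge]
  have h1 : ∀ w, w ≠ 0 → ∃ g ∈ H, g.1 *ᵥ w = tgt := by
    intro w hw
    have key : ∀ u, u ≠ 0 → (u ∘ Sum.inr ≠ 0) → ∃ g ∈ H, g.1 *ᵥ u = tgt := fun u _ hu => by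
      obtain ⟨g, hg, hge⟩ := h2 (u ∘ Sum.inl) _ hu
      rw [Sum.elim_comp_inl_inr] at hge
      exact ⟨g, hg, hge⟩
    by_cases hy : w ∘ Sum.inr = 0
    · have hx : w ∘ Sum.inl ≠ 0 := fun hx => hw (by rw [← Sum.elim_comp_inl_inr w, hx, hy]; funext a; cases a <;> rfl)
      obtain ⟨g, hg⟩ := mv _ hx i
      obtain ⟨e, he, hne⟩ : ∃ e ∈ H, (e.1 *ᵥ w) ∘ Sum.inr ≠ 0 := by
        refine ⟨embLong i wW * levi g, mul_mem hs (hlevi g), fun h => hg ?_⟩
        have := congrFun h i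
        rw [sp_comp, coe_levi, fromBlocks_mulVec, coe_embLong, fromBlocks_mulVec] at this
        simp [hy, coe_wW] at this
        rw [← Matrix.mulVec_mulVec, Matrix.mulVec_diagonal] at this
        simpa using this
      obtain ⟨g', hg', hge⟩ := key _ (fun h => hne (by rw [h]; rfl)) hne
      exact ⟨g' * e, mul_mem hg' he, by rw [sp_comp, hge]⟩
    · exact key w hw hy
  rw [eq_top_iff, ← CfsgLib.Forms.transvGroup_eq_top, CfsgLib.Forms.transvGroup, Subgroup.closure_le]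
  rintro _ ⟨w, -, c, rfl⟩
  rcases eq_or_ne w 0 with rfl | hw
  · have : CfsgLib.Forms.spTransv (0 : Fin (m + 2) ⊕ Fin (m + 2) → F) c = 1 :=
      CfsgLib.Forms.sp_ext fun x => by
        simp [CfsgLib.Forms.spTransv, CfsgLib.Forms.sympTransvection_mulVec]
    rw [this]; exact one_mem _
  · set e0 : Fin (m + 2) ⊕ Fin (m + 2) → F := Pi.single (Sum.inl 0) 1
    obtain ⟨g, hg, hge⟩ := h1 w hw
    obtain ⟨g0, hg0, hge0⟩ := h1 e0 (by simp [e0])
    have hw' : (g⁻¹ * g0).1 *ᵥ e0 = w := by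
      rw [sp_comp, hge0, ← hge, ← sp_comp, inv_mul_cancel, Submonoid.coe_one, Matrix.one_mulVec]
    have he : CfsgLib.Forms.spTransv e0 c =
        up (Matrix.single 0 0 c) (by rw [Matrix.transpose_single]) := by
      apply Subtype.ext
      show Cfsg.sympTransvection _ e0 c = fromBlocks 1 (Matrix.single 0 0 c) 0 1
      have hJ : Matrix.J (Fin (m + 2)) F *ᵥ e0 = Pi.single (Sum.inr 0) 1 := by
        funext a
        rcases a with a | a
        · rw [CfsgLib.Forms.J_mulVec_inl]; simp [e0]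
        · rw [CfsgLib.Forms.J_mulVec_inr]; simp [e0, Pi.single_apply]
      rw [Cfsg.sympTransvection, hJ]
      ext a b
      rw [Matrix.add_apply, Matrix.smul_apply, Matrix.vecMulVec_apply]
      rcases a with a | a <;> rcases b with b | b <;>
        simp only [fromBlocks_apply₁₁, fromBlocks_apply₁₂, fromBlocks_apply₂₁, fromBlocks_apply₂₂, e0, Pi.single_apply,
          Matrix.one_apply, Matrix.single_apply, Matrix.zero_apply, Sum.inl.injEq, Sum.inr.injEq, reduceCtorEq,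
          if_false, smul_eq_mul, mul_zero, zero_mul, add_zero, zero_add]
      by_cases ha : a = 0 <;> by_cases hb : b = 0 <;> simp [ha, hb, Ne.symm]
    rw [← hw', ← CfsgLib.Forms4.conj_spTransv, he]
    exact mul_mem (mul_mem (mul_mem (inv_mem hg) hg0) (hup _ _)) (inv_mem (mul_mem (inv_mem hg) hg0))

end CfsgLib.SpnPres
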