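import Cfsg.Agent.SpnPres.Borel
import Cfsg.Agent.SpnPres.Generation
import Cfsg.Agent.PresLib.Bruhat

/-!
# The symplectic amalgam is the symplectic group
-/

set_option autoImplicit false

namespace CfsgLib.SpnPres

open Matrix CfsgLib.SL2Pres CfsgLib.SLnPres CfsgLib.Sp4Pres CfsgLib.SteinbergSLn

variable {G F : Type*} [Group G] [Field F] {k : ℕ}

/-- Homomorphisms out of a finite product are determined on the factors. -/
theorem pi_hom_ext {ι M : Type*} [Finite ι] [DecidableEq ι] {H : ι → Type*} [∀ i, Group (H i)] [Group M]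
    {f g : (∀ i, H i) →* M} (h : ∀ i x, f (Pi.mulSingle i x) = g (Pi.mulSingle i x)) : f = g := by
  refine DFunLike.ext _ _ fun x => ?_
  have : Subgroup.pi Set.univ (fun i => (⊤ : Subgroup (H i))) ≤ f.eqLocus g := by
    rw [Subgroup.pi_le_iff]
    rintro i _ ⟨y, -, rfl⟩
    exact h i y
  exact this (fun i _ => Subgroup.mem_top _)

section Targets

variable {ι : Type*} [Fintype ι] [DecidableEq ι]

theorem embLong_xU (i : ι) (t : F) :
    embLong i (xU t) = up (Matrix.single i i t) (Matrix.transpose_single ..) := by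
  apply Subtype.ext
  rw [coe_embLong, coe_xU]
  show _ = fromBlocks 1 (Matrix.single i i t) 0 1
  congr 1
  · simp [dOne]
  · exact Matrix.diagonal_single i t
  · simp
  · simp [dOne]

theorem up_zero_iff {S : Matrix ι ι F} {h : Sᵀ = S} (e : up S h = 1) : S = 0 := by
  have := congrArg (fun g : Matrix.symplecticGroup ι F => g.1.toBlocks₁₂) e
  simp only [up, toBlocks_fromBlocks₁₂, Submonoid.coe_one] at this
  rw [this, ← fromBlocks_one, toBlocks_fromBlocks₁₂]

/-- Monomial matrices. -/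
def Mon (ι F : Type*) [Fintype ι] [DecidableEq ι] [Field F] : Subgroup (Matrix.SpecialLinearGroup ι F) where
  carrier := {g | ∃ π c, IsMon g π c}
  one_mem' := ⟨1, 1, IsMon.one⟩
  mul_mem' := fun ⟨_, _, h⟩ ⟨_, _, h'⟩ => ⟨_, _, h.mul h'⟩
  inv_mem' := fun ⟨_, _, h⟩ => ⟨_, _, h.inv⟩

/-- The elements fixing the flag in the first half. -/
def Tri (n : ℕ) (F : Type*) [Field F] : Subgroup (Matrix.symplecticGroup (Fin n) F) where
  carrier := {g | (g.1.toBlocks₂₁ = 0 ∧ g.1.toBlocks₁₁.BlockTriangular id) ∧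
    ((g⁻¹).1.toBlocks₂₁ = 0 ∧ (g⁻¹).1.toBlocks₁₁.BlockTriangular id)}
  one_mem' := by
    have e : (1 : Matrix (Fin n ⊕ Fin n) (Fin n ⊕ Fin n) F).toBlocks₂₁ = 0 ∧
        (1 : Matrix (Fin n ⊕ Fin n) (Fin n ⊕ Fin n) F).toBlocks₁₁ = 1 := by
      rw [← fromBlocks_one, toBlocks_fromBlocks₂₁, toBlocks_fromBlocks₁₁]; exact ⟨rfl, rfl⟩
    simp only [Set.mem_ofPred_eq, inv_one, Submonoid.coe_one, e.1, e.2]
    exact ⟨⟨trivial, Matrix.blockTriangular_one⟩, trivial, Matrix.blockTriangular_one⟩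
  mul_mem' := by
    have h : ∀ g g' : Matrix (Fin n ⊕ Fin n) (Fin n ⊕ Fin n) F,
        g.toBlocks₂₁ = 0 ∧ g.toBlocks₁₁.BlockTriangular id → g'.toBlocks₂₁ = 0 ∧ g'.toBlocks₁₁.BlockTriangular id →
        (g * g').toBlocks₂₁ = 0 ∧ (g * g').toBlocks₁₁.BlockTriangular id := by
      rintro g g' ⟨a1, a2⟩ ⟨b1, b2⟩
      rw [← fromBlocks_toBlocks g, ← fromBlocks_toBlocks g', fromBlocks_multiply, toBlocks_fromBlocks₂₁,
        toBlocks_fromBlocks₁₁, a1, b1]
      exact ⟨by simp, by simpa using a2.mul b2⟩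
    rintro g g' ⟨h1, h2⟩ ⟨h1', h2'⟩
    refine ⟨h _ _ h1 h1', ?_⟩
    rw [_root_.mul_inv_rev]
    exact h _ _ h2' h2
  inv_mem' := fun ⟨h1, h2⟩ => ⟨h2, by rwa [inv_inv]⟩

theorem blockTriangular_tv {n : ℕ} {i j : Fin n} (h : i < j) (t : F) :
    (Matrix.transvection i j t).BlockTriangular id := Matrix.blockTriangular_transvection h.le t

theorem embA_hD_long (c : Fˣ) :
    embA (hD c) = (embLong 0 (hD c) * embLong 1 (hD c⁻¹) : Matrix.symplecticGroup (Fin 2) F) := by
  have h0 : embLong (0 : Fin 2) (hD c) = (dT c 1 : Matrix.symplecticGroup (Fin 2) F) := by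
    apply Subtype.ext
    rw [coe_long0, coe_dT, coe_hD]
    refine ext_blocks ?_ ?_ ?_ ?_ <;> intro i j <;> fin_cases i <;> fin_cases j <;> simp
  rw [h0, ← embB_eq_long, embB_hD, embA_hD, dT_mul, mul_one, one_mul]

/-- Indices for symmetric matrices. -/
abbrev UT (k : ℕ) := {p : Fin (k + 3) × Fin (k + 3) // p.1 ≤ p.2}

/-- A symmetric matrix from its upper triangle. -/
def symMat (f : UT k → Multiplicative F) : Matrix (Fin (k + 3)) (Fin (k + 3)) F :=
  Matrix.of fun a b => (f ⟨(min a b, max a b), min_le_max⟩).toAdd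

theorem symMat_symm (f : UT k → Multiplicative F) : (symMat f)ᵀ = symMat f := by
  ext a b; simp [symMat, min_comm, max_comm]

/-- The radical as a homomorphism. -/
def upHom (k : ℕ) (F : Type*) [Field F] : (UT k → Multiplicative F) →* Matrix.symplecticGroup (Fin (k + 3)) F where
  toFun f := up (symMat f) (symMat_symm f)
  map_one' := by
    apply Subtype.ext
    rw [Submonoid.coe_one, ← fromBlocks_one]
    show fromBlocks 1 (symMat 1) 0 1 = _
    congr 1
  map_mul' f g := by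
    apply Subtype.ext
    show fromBlocks 1 (symMat (f * g)) 0 1 = fromBlocks 1 (symMat f) 0 1 * fromBlocks 1 (symMat g) 0 1
    rw [fromBlocks_multiply]
    simp only [Matrix.mul_one, Matrix.one_mul, Matrix.mul_zero, Matrix.zero_mul, add_zero, zero_add]
    congr 1
    ext a b
    simp [symMat, add_comm]

/-- Independent long root `SL₂`s as a homomorphism. -/
def longHom (ι F : Type*) [Fintype ι] [DecidableEq ι] [Field F] :
    (ι → Matrix.SpecialLinearGroup (Fin 2) F) →* Matrix.symplecticGroup ι F where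
  toFun f := ⟨fromBlocks (diagonal fun i => (f i).1 0 0) (diagonal fun i => (f i).1 0 1)
      (diagonal fun i => (f i).1 1 0) (diagonal fun i => (f i).1 1 1), by
    rw [SymplecticGroup.fromBlocks_mem_iff]
    simp only [diagonal_transpose, diagonal_mul_diagonal, diagonal_sub, ← diagonal_one, diagonal_eq_diagonal_iff]
    refine ⟨fun i => ?_, fun i => ?_, fun i => ?_⟩
    · ring
    · ring
    · linear_combination det_sl2 (f i)⟩
  map_one' := by apply Subtype.ext; simp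
  map_mul' f g := by
    apply Subtype.ext
    change fromBlocks _ _ _ _ = fromBlocks _ _ _ _ * fromBlocks _ _ _ _
    rw [fromBlocks_multiply]
    simp [diagonal_mul_diagonal, diagonal_add, Matrix.mul_apply, Fin.sum_univ_two]

theorem longHom_single (i : ι) (g : Matrix.SpecialLinearGroup (Fin 2) F) :
    longHom ι F (Pi.mulSingle i g) = embLong i g := by
  apply Subtype.ext
  rw [coe_embLong]
  show fromBlocks _ _ _ _ = _
  congr 1 <;> (congr 1; funext a; by_cases h : a = i <;> simp [dOne_apply, h])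

end Targets

namespace Amalgam

variable (A : Amalgam G F k)

/-- The generator at a place in the upper triangle. -/
def eUT (p : UT k) : Multiplicative F →* G where
  toFun t := if p.1.1 = p.1.2 then A.L p.1.1 (xU t.toAdd) else A.ν p.1.1 p.1.2 (xAB t.toAdd)
  map_one' := by
    have h : (xAB (0 : F) : Matrix.symplecticGroup (Fin 2) F) = 1 := by
      have := xAB_add (0 : F) 0
      rw [add_zero] at this
      exact left_eq_mul.1 this
    split_ifs <;> simp [xU_zero, h]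
  map_mul' s t := by
    split_ifs <;> simp [xU_add, xAB_add]

theorem eUT_mem (p : UT k) (t : Multiplicative F) : A.eUT p t ∈ A.Nplus := by
  show (if p.1.1 = p.1.2 then _ else _) ∈ _
  split_ifs with h
  · exact A.L_mem _ _
  · rw [A.ν_xAB h]; exact A.bgen_mem h _

/-- Coordinates on the radical. -/
noncomputable def eN : (UT k → Multiplicative F) →* G :=
  MonoidHom.noncommPiCoprod A.eUT fun _ _ _ x y => A.Nplus_comm (A.eUT_mem _ x) (A.eUT_mem _ y)

theorem eN_single (p : UT k) (t : Multiplicative F) : A.eN (Pi.mulSingle p t) = A.eUT p t :=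
  MonoidHom.noncommPiCoprod_mulSingle _ _ _

theorem φ_eN (f : UT k → Multiplicative F) : A.φ (A.eN f) = upHom k F f := by
  refine DFunLike.congr_fun (f := A.φ.comp A.eN) (pi_hom_ext fun p t => ?_) f
  rw [MonoidHom.comp_apply, A.eN_single]
  obtain ⟨⟨i, j⟩, hij⟩ := p
  change A.φ (if i = j then _ else _) = up _ (symMat_symm _)
  have hS : ∀ a b, symMat (Pi.mulSingle (⟨(i, j), hij⟩ : UT k) t) a b =
      if (a = i ∧ b = j) ∨ (a = j ∧ b = i) then t.toAdd else 0 := by
    intro a b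
    simp only [symMat, Matrix.of_apply, Pi.mulSingle_apply, Subtype.mk.injEq, Prod.mk.injEq]
    have hiff : (min a b = i ∧ max a b = j) ↔ ((a = i ∧ b = j) ∨ (a = j ∧ b = i)) := by
      rcases le_total a b with h | h
      · rw [min_eq_left h, max_eq_right h]
        exact ⟨Or.inl, fun e => e.elim id fun ⟨e1, e2⟩ =>
          have : i = j := le_antisymm hij (e1 ▸ e2 ▸ h)
          ⟨e1.trans this.symm, e2.trans this⟩⟩
      · rw [min_eq_right h, max_eq_left h]
        exact ⟨fun ⟨e1, e2⟩ => Or.inr ⟨e2, e1⟩, fun e => e.elim (fun ⟨e1, e2⟩ =>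
          have : i = j := le_antisymm hij (e1 ▸ e2 ▸ h)
          ⟨e2.trans this.symm, e1.trans this⟩) (fun ⟨e1, e2⟩ => ⟨e2, e1⟩)⟩
    by_cases hc : min a b = i ∧ max a b = j
    · rw [if_pos hc, if_pos (hiff.1 hc)]
    · rw [if_neg hc, if_neg (fun e => hc (hiff.2 e)), toAdd_one]
  split_ifs with h
  · subst h
    rw [A.φ_L, embLong_xU]
    apply Subtype.ext
    show fromBlocks 1 _ 0 1 = fromBlocks 1 _ 0 1
    congr 1
    ext a b
    rw [hS, Matrix.single_apply]
    simp [eq_comm]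
  · rw [ν_apply, map_mul, map_mul, map_inv, A.hφρ, A.hφσ, embTwo_xAB, levi_up]
    apply Subtype.ext
    show fromBlocks 1 _ 0 1 = fromBlocks 1 _ 0 1
    congr 1
    have hm := isMon_monOf (F := F) (perm2 i j) 2
    rw [mv2, Matrix.mul_add, Matrix.add_mul, hm.mul_single_mul, hm.mul_single_mul, perm2_zero h, perm2_one,
      dOne_two _ two_ne.1.symm, dOne_two _ two_ne.2.symm]
    ext a b
    rw [hS]
    simp only [Matrix.add_apply, Matrix.single_apply, one_mul, mul_one]
    by_cases h1 : a = i ∧ b = j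
    · simp [h1, h, Ne.symm h]
    · by_cases h2 : a = j ∧ b = i
      · simp [h2, h, Ne.symm h]
      · have e1 : ¬ (i = a ∧ j = b) := fun ⟨x, y⟩ => h1 ⟨x.symm, y.symm⟩
        have e2 : ¬ (j = a ∧ i = b) := fun ⟨x, y⟩ => h2 ⟨x.symm, y.symm⟩
        have e3 : ¬ ((a = i ∧ b = j) ∨ (a = j ∧ b = i)) := fun e => e.elim h1 h2
        simp [e1, e2, e3]

theorem Nplus_le_range : A.Nplus ≤ A.eN.range := by
  refine iSup_le fun ⟨i, j⟩ => ?_
  have hle : ∀ i j : Fin (k + 3), i ≤ j → A.X (i, false) (j, false) ≤ A.eN.range := by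
    intro i j hij
    rcases eq_or_lt_of_le hij with rfl | hlt
    · rw [A.X_ll]
      refine rng_le fun t => ⟨Pi.mulSingle ⟨(i, i), le_rfl⟩ (Multiplicative.ofAdd t), ?_⟩
      rw [A.eN_single]; exact if_pos rfl
    · rw [A.X_bb hlt.ne]
      refine rng_le fun t => ⟨Pi.mulSingle ⟨(i, j), hij⟩ (Multiplicative.ofAdd (-t)), ?_⟩
      rw [A.eN_single, A.bgen_ν hlt.ne]; exact if_neg hlt.ne
  rcases le_total i j with h | h
  · exact hle i j h
  · show A.X (i, false) (j, false) ≤ _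
    rw [A.X_symm]; exact hle j i h

/-- All long root `SL₂`s together. -/
noncomputable def Lam : (Fin (k + 3) → Matrix.SpecialLinearGroup (Fin 2) F) →* G :=
  MonoidHom.noncommPiCoprod A.L fun _ _ h x y => A.L_comm h x y

theorem Lam_single (i : Fin (k + 3)) (g : Matrix.SpecialLinearGroup (Fin 2) F) : A.Lam (Pi.mulSingle i g) = A.L i g :=
  MonoidHom.noncommPiCoprod_mulSingle _ _ _

theorem φ_Lam (f : Fin (k + 3) → Matrix.SpecialLinearGroup (Fin 2) F) : A.φ (A.Lam f) = longHom _ F f := by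
  refine DFunLike.congr_fun (f := A.φ.comp A.Lam) (pi_hom_ext fun i g => ?_) f
  rw [MonoidHom.comp_apply, A.Lam_single, A.φ_L, longHom_single]

/-- The monomial part of the long root `SL₂`s. -/
noncomputable def T : Subgroup G := (Subgroup.pi Set.univ fun _ : Fin (k + 3) => Mon (Fin 2) F).map A.Lam

/-- The monomial subgroup. -/
noncomputable def N : Subgroup G := A.T ⊔ (Mon (Fin (k + 3)) F).map A.ρ

theorem L_mem_T (i : Fin (k + 3)) {g : Matrix.SpecialLinearGroup (Fin 2) F} (hg : g ∈ Mon (Fin 2) F) : A.L i g ∈ A.T := by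
  refine ⟨Pi.mulSingle i g, fun a _ => ?_, A.Lam_single i g⟩
  by_cases h : a = i
  · subst h; simpa using hg
  · simp [h, one_mem]

theorem isMon_hD (c : Fˣ) : IsMon (hD c : Matrix.SpecialLinearGroup (Fin 2) F) 1 ![(c : F), ((c⁻¹ : Fˣ) : F)] := by
  refine ⟨fun b => by fin_cases b <;> simp, fun a b => ?_⟩
  fin_cases a <;> fin_cases b <;> simp [coe_hD]

theorem wW_mem_Mon : (wW : Matrix.SpecialLinearGroup (Fin 2) F) ∈ Mon (Fin 2) F :=
  ⟨Equiv.swap 0 1, ![-1, 1], fun b => by fin_cases b <;> simp, fun a b => by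
    fin_cases a <;> fin_cases b <;> simp [coe_wW]⟩

theorem conjD_mem_Mon (c : F) {g : Matrix.SpecialLinearGroup (Fin 2) F} (hg : g ∈ Mon (Fin 2) F) :
    conjD c g ∈ Mon (Fin 2) F := by
  rw [conjD]
  split_ifs
  · exact hg
  · have : hD (Units.mk0 c ‹_›) ∈ Mon (Fin 2) F := ⟨_, _, isMon_hD _⟩
    exact mul_mem (mul_mem this hg) (inv_mem this)

theorem mon_le_normalizer_T : (Mon (Fin (k + 3)) F).map A.ρ ≤ Subgroup.normalizer (A.T : Set G) := by
  have h : ∀ m ∈ Mon (Fin (k + 3)) F, cnj (A.ρ m) A.T ≤ A.T := by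
    rintro m ⟨π, c, hm⟩
    rw [cnj, T, Subgroup.map_map, Subgroup.map_le_iff_le_comap, Subgroup.pi_le_iff]
    rintro i _ ⟨g, hg, rfl⟩
    show A.ρ m * A.Lam (Pi.mulSingle i g) * (A.ρ m)⁻¹ ∈ A.T
    rw [A.Lam_single, A.mon_L hm]
    exact A.L_mem_T _ (conjD_mem_Mon _ hg)
  rintro _ ⟨m, hm, rfl⟩
  refine mem_normalizer_of_cnj (le_antisymm (h m hm) fun x hx => ?_)
  have := h m⁻¹ (inv_mem hm) (mem_cnj (g := A.ρ m⁻¹) hx)
  refine ⟨_, this, ?_⟩
  simp [mul_assoc]

theorem act_of_N {w : G} (hw : w ∈ A.N) : ∃ f, A.Act w f := by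
  let S : Subgroup G :=
    { carrier := {w | ∃ f, A.Act w f}
      one_mem' := ⟨1, Act.one A⟩
      mul_mem' := fun ⟨_, h⟩ ⟨_, h'⟩ => ⟨_, Act.mul A h h'⟩
      inv_mem' := fun ⟨_, h⟩ => ⟨_, Act.inv A h⟩ }
  suffices h : A.N ≤ S from h hw
  refine sup_le ?_ ?_
  · rw [T, Subgroup.map_le_iff_le_comap, Subgroup.pi_le_iff]
    rintro i _ ⟨g, ⟨π, c, hg⟩, rfl⟩
    show A.Lam (Pi.mulSingle i g) ∈ S
    rw [A.Lam_single]
    have hπ : π = 1 ∨ π = Equiv.swap 0 1 := by clear hg; revert π; decide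
    have hd := det_sl2 g
    have e00 := hg.eq 0 0
    have e01 := hg.eq 0 1
    have e10 := hg.eq 1 0
    have e11 := hg.eq 1 1
    rcases hπ with rfl | rfl
    · simp at e00 e01 e10 e11
      rw [e00, e01, e10, e11, mul_zero, sub_zero] at hd
      have : g = hD (Units.mk0 (c 0) (hg.ne 0)) := by
        apply Subtype.ext
        rw [coe_hD]
        ext a b
        fin_cases a <;> fin_cases b <;> simp [e00, e01, e10, e11]
        exact eq_inv_of_mul_eq_one_right hd
      rw [this]; exact ⟨_, A.act_hh i _⟩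
    · simp at e00 e01 e10 e11
      rw [e00, e01, e10, e11, zero_mul, zero_sub] at hd
      have : g = wW * hD (Units.mk0 (-(c 0)) (neg_ne_zero.2 (hg.ne 0))) := by
        apply Subtype.ext
        rw [Matrix.SpecialLinearGroup.coe_mul, coe_hD, coe_wW]
        ext a b
        fin_cases a <;> fin_cases b <;> simp [Matrix.mul_apply, Fin.sum_univ_two, e00, e01, e10, e11]
        field_simp [hg.ne 0]
        linear_combination -hd
      rw [this, map_mul]; exact ⟨_, Act.mul A (A.act_s i) (A.act_hh i _)⟩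
  · rintro _ ⟨m, ⟨π, c, hm⟩, rfl⟩
    exact ⟨_, A.act_mon hm⟩

theorem n_mem_N (r : SR k) : A.n r ∈ A.N := by
  rcases r with a | u
  · obtain ⟨m, c, hm, e⟩ := A.n_mon a
    rw [e]; exact le_sup_right (a := A.T) ⟨m, ⟨_, c, hm⟩, rfl⟩
  · exact le_sup_left (b := (Mon (Fin (k + 3)) F).map A.ρ) (A.L_mem_T _ wW_mem_Mon)

theorem φ_U_le : A.U.map A.φ ≤ Tri (k + 3) F := by
  rw [Subgroup.map_le_iff_le_comap]
  refine iSup_le fun p => ?_
  rcases p with ⟨⟨i, j⟩, hij⟩ | ⟨i, j⟩
  · rw [A.Xp_inl]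
    refine rng_le fun t => ?_
    show A.φ (A.ρ (tv i j t)) ∈ Tri (k + 3) F
    rw [A.hφρ]
    refine ⟨⟨?_, ?_⟩, ?_⟩
    · simp [coe_levi]
    · rw [coe_levi, toBlocks_fromBlocks₁₁, coe_tv hij.ne]; exact blockTriangular_tv hij t
    · rw [← map_inv, ← SteinbergSLn.neg (stRel (F := F) (k := k)) hij.ne]
      exact ⟨by simp [coe_levi], by rw [coe_levi, toBlocks_fromBlocks₁₁, coe_tv hij.ne]; exact blockTriangular_tv hij _⟩
  · intro x hx
    obtain ⟨f, rfl⟩ := A.Nplus_le_range (A.le_Nplus i j hx)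
    show A.φ (A.eN f) ∈ Tri (k + 3) F
    rw [A.φ_eN]
    have h : ∀ f : UT k → Multiplicative F, (upHom k F f).1.toBlocks₂₁ = 0 ∧ (upHom k F f).1.toBlocks₁₁.BlockTriangular id :=
      fun f => by
      show (fromBlocks 1 (symMat f) 0 1).toBlocks₂₁ = 0 ∧ (fromBlocks 1 (symMat f) 0 1).toBlocks₁₁.BlockTriangular id
      rw [toBlocks_fromBlocks₂₁, toBlocks_fromBlocks₁₁]; exact ⟨rfl, Matrix.blockTriangular_one⟩
    exact ⟨h f, by rw [← map_inv]; exact h _⟩

theorem blockTriangular_diag {n : ℕ} (d : Fin n → F) : (Matrix.diagonal d).BlockTriangular id :=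
  Matrix.blockTriangular_diagonal d

theorem φ_B_le : A.B.map A.φ ≤ Tri (k + 3) F := by
  rw [B, Subgroup.map_sup]
  refine sup_le A.φ_U_le ?_
  rw [Subgroup.map_le_iff_le_comap, H, Subgroup.closure_le]
  rintro x (⟨l, c, rfl⟩ | ⟨m, c, hm, rfl⟩)
  · show A.φ (A.L l (hD c)) ∈ Tri (k + 3) F
    rw [A.φ_L]
    have h : ∀ c : Fˣ, (embLong l (hD c) : Matrix.symplecticGroup (Fin (k + 3)) F).1.toBlocks₂₁ = 0 ∧
        (embLong l (hD c) : Matrix.symplecticGroup (Fin (k + 3)) F).1.toBlocks₁₁.BlockTriangular id := fun c => by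
      rw [coe_embLong, toBlocks_fromBlocks₂₁, toBlocks_fromBlocks₁₁]
      exact ⟨by simp [coe_hD], blockTriangular_diag _⟩
    exact ⟨h c, by rw [← map_inv, hD_inv]; exact h _⟩
  · show A.φ (A.ρ m) ∈ Tri (k + 3) F
    rw [A.hφρ]
    have h : ∀ (m : Matrix.SpecialLinearGroup (Fin (k + 3)) F) (c : Fin (k + 3) → F),
        IsMon m (1 : Equiv.Perm (Fin (k + 3))) c → (levi m).1.toBlocks₂₁ = 0 ∧ (levi m).1.toBlocks₁₁.BlockTriangular id :=
      fun m c hm => by
      rw [coe_levi, toBlocks_fromBlocks₂₁, toBlocks_fromBlocks₁₁]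
      refine ⟨rfl, fun a b hab => ?_⟩
      rw [hm.eq, if_neg]
      exact fun e => (ne_of_gt hab) e.symm
    have hinv := hm.inv
    rw [inv_one] at hinv
    exact ⟨h m c hm, by rw [← map_inv]; exact h _ _ hinv⟩

theorem perm_eq_one_of_le {n : ℕ} (π : Equiv.Perm (Fin n)) (h : ∀ b, π b ≤ b) : π = 1 := by
  refine Equiv.ext fun b => ?_
  have hs : ∑ b, (π b).val = ∑ b : Fin n, b.val := Equiv.sum_comp π (fun b : Fin n => b.val)
  by_contra hb
  have hlt : (π b).val < b.val := lt_of_le_of_ne (h b) (fun e => hb (Fin.ext e))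
  exact absurd hs (Finset.sum_lt_sum (fun (i : Fin n) _ => Fin.le_def.1 (h i)) ⟨b, Finset.mem_univ _, hlt⟩).ne

theorem N_inter_B {w : G} (hw : w ∈ A.N) (hφ : A.φ w ∈ A.B.map A.φ) : w ∈ A.B := by
  obtain ⟨t, ht, _, ⟨m, ⟨π, c, hm⟩, rfl⟩, rfl⟩ := exists_mul_of_mem_sup A.mon_le_normalizer_T hw
  obtain ⟨f, hf, rfl⟩ := ht
  have hT := (A.φ_B_le hφ).1
  rw [map_mul, A.φ_Lam, A.hφρ, Submonoid.coe_mul, coe_levi] at hT
  simp only [longHom, MonoidHom.coe_mk, OneHom.coe_mk, fromBlocks_multiply, toBlocks_fromBlocks₂₁,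
    toBlocks_fromBlocks₁₁, Matrix.mul_zero, add_zero, zero_add] at hT
  have hf0 : ∀ a, (f a).1 1 0 = 0 := fun a => by
    obtain ⟨b, rfl⟩ := π.surjective a
    have := congrFun (congrFun hT.1 (π b)) b
    rw [Matrix.diagonal_mul, hm.eq, if_pos rfl, Matrix.zero_apply] at this
    exact (mul_eq_zero.1 this).resolve_right (hm.ne b)
  have hfd : ∀ a, ∃ d : Fˣ, f a = hD d := fun a => by
    obtain ⟨τ, d, hd⟩ := hf a (Set.mem_univ _)
    have h10 := hd.eq 1 0
    rw [hf0 a] at h10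
    have hτ : τ 0 = 0 := by
      by_contra hne
      have : τ 0 = 1 := by revert hne; generalize τ 0 = x; revert x; decide
      rw [if_pos this] at h10
      exact hd.ne 0 h10.symm
    have hτ1 : τ = 1 := by revert hτ; clear * - ; revert τ; decide
    subst hτ1
    refine ⟨Units.mk0 (d 0) (hd.ne 0), ?_⟩
    have e00 := hd.eq 0 0
    have e01 := hd.eq 0 1
    have e11 := hd.eq 1 1
    simp at e00 e01 e11
    have hdet := det_sl2 (f a)
    rw [e00, e01, e11, zero_mul, sub_zero] at hdet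
    apply Subtype.ext
    rw [coe_hD]
    ext i j
    fin_cases i <;> fin_cases j <;> simp [e00, e01, e11, hf0 a]
    exact eq_inv_of_mul_eq_one_right hdet
  have hπ : π = 1 := perm_eq_one_of_le π fun b => by
    by_contra hb
    have := hT.2 (show id b < id (π b) from not_le.1 hb)
    rw [Matrix.diagonal_mul, hm.eq, if_pos rfl] at this
    obtain ⟨d, hd⟩ := hfd (π b)
    rcases mul_eq_zero.1 this with h | h
    · rw [hd, coe_hD] at h; simp at h
    · exact hm.ne b h
  subst hπ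
  refine mul_mem (A.H_le_B ?_) (A.H_le_B (Subgroup.subset_closure (Or.inr ⟨m, c, hm, rfl⟩)))
  have hle : (Subgroup.pi Set.univ fun _ : Fin (k + 3) =>
      Subgroup.closure (Set.range (hD : Fˣ → Matrix.SpecialLinearGroup (Fin 2) F))).map A.Lam ≤ A.H := by
    rw [Subgroup.map_le_iff_le_comap, Subgroup.pi_le_iff]
    intro i
    rw [Subgroup.map_le_iff_le_comap, Subgroup.closure_le]
    rintro _ ⟨d, rfl⟩
    show A.Lam (Pi.mulSingle i (hD d)) ∈ A.H
    rw [A.Lam_single]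
    exact Subgroup.subset_closure (Or.inl ⟨i, d, rfl⟩)
  refine hle ⟨f, fun a _ => ?_, rfl⟩
  obtain ⟨d, hd⟩ := hfd a
  rw [hd]; exact Subgroup.subset_closure ⟨d, rfl⟩

/-- The Levi part. -/
def K : Subgroup G := A.ρ.range ⊔ Subgroup.closure {g | ∃ c, g = A.hh 0 c}

theorem hh0_le_normalizer : Subgroup.closure {g | ∃ c, g = A.hh 0 c} ≤ Subgroup.normalizer (A.ρ.range : Set G) := by
  rw [Subgroup.closure_le]
  rintro _ ⟨c, rfl⟩
  have key : ∀ c, cnj (A.hh 0 c) A.ρ.range ≤ A.ρ.range := fun c => by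
    rintro _ ⟨_, ⟨M, rfl⟩, rfl⟩
    have : (A.ρ.range.comap ((MulAut.conj (A.hh 0 c)).toMonoidHom.comp A.ρ)) = ⊤ :=
      CfsgLib.Linear.sl_eq_top_of_transvections fun i j hij t => by
        rw [Subgroup.mem_comap, show Matrix.SpecialLinearGroup.transvection hij t = tv i j t by rw [tv, dif_neg hij]]
        have h1 : A.hh 0 c * A.ρ (tv i j t) * (A.hh 0 c)⁻¹ ∈ A.XA i j := by
          have := mem_cnj (g := A.hh 0 c) (A.tv_mem_XA (i := i) (j := j) t)
          rwa [A.hh_fix_XA hij] at this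
        exact (rng_le fun t => ⟨_, rfl⟩ : A.XA i j ≤ A.ρ.range) h1
    exact (this ▸ Subgroup.mem_top M : M ∈ _)
  refine mem_normalizer_of_cnj (le_antisymm (key c) fun x hx => ?_)
  have := key c⁻¹ (mem_cnj (g := A.hh 0 c⁻¹) hx)
  refine ⟨_, this, ?_⟩
  simp [hh, ← hD_inv, mul_assoc]

theorem K_le_normalizer : A.K ≤ Subgroup.normalizer (A.Nplus : Set G) := by
  refine sup_le ?_ ?_
  · rintro _ ⟨M, rfl⟩; exact A.ρ_normalizes M
  · rw [Subgroup.closure_le]
    rintro _ ⟨c, rfl⟩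
    refine mem_normalizer_of_cnj ?_
    rw [Nplus, cnj_iSup]
    exact iSup_congr fun p => (A.act_hh 0 c).2 _ _

theorem hh_mem_K (l : Fin (k + 3)) (c : Fˣ) : A.hh l c ∈ A.K := by
  have h0 : ∀ c, A.hh 0 c ∈ A.K := fun c => le_sup_right (a := A.ρ.range) (Subgroup.subset_closure ⟨c, rfl⟩)
  by_cases hl : l = 0
  · subst hl; exact h0 c
  have e := congrArg (A.ν l 0) (embA_hD_long c)
  rw [A.ν_embA, map_mul (A.ν l 0), A.ν_long0 hl, A.ν_long1] at e
  have : A.hh l c = A.ρ (mv2 l 0 * blk (hD c) * (mv2 l 0)⁻¹) * (A.hh 0 c⁻¹)⁻¹ := by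
    rw [e]; exact (mul_inv_cancel_right _ _).symm
  rw [this]
  exact mul_mem (le_sup_left (b := Subgroup.closure {g | ∃ c, g = A.hh 0 c}) ⟨_, rfl⟩) (inv_mem (h0 _))

theorem B_le : A.B ≤ A.Nplus ⊔ A.K := by
  refine sup_le (iSup_le fun p => ?_) ?_
  · rcases p with p | ⟨i, j⟩
    · rw [A.Xp_inl]
      exact le_sup_of_le_right (le_sup_of_le_left (rng_le fun t => ⟨_, rfl⟩))
    · exact le_sup_of_le_left (A.le_Nplus i j)
  · refine le_sup_of_le_right ?_
    rw [H, Subgroup.closure_le]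
    rintro _ (⟨l, c, rfl⟩ | ⟨m, c, hm, rfl⟩)
    · exact A.hh_mem_K l c
    · exact le_sup_left (b := Subgroup.closure {g | ∃ c, g = A.hh 0 c}) ⟨m, rfl⟩

theorem injective_B : ∀ b ∈ A.B, A.φ b = 1 → b = 1 := by
  intro b hb h1
  obtain ⟨x, hx, y, hy, rfl⟩ := exists_mul_of_mem_sup A.K_le_normalizer (A.B_le hb)
  obtain ⟨_, ⟨M, rfl⟩, z, hz, rfl⟩ := exists_mul_of_mem_sup A.hh0_le_normalizer hy
  have hcl : ∀ z ∈ Subgroup.closure {g | ∃ c, g = A.hh 0 c}, ∃ c, z = A.hh 0 c := by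
    intro z hz
    induction hz using Subgroup.closure_induction with
    | mem z hz => exact hz
    | one => exact ⟨1, by simp [hh, hD_one]⟩
    | mul _ _ _ _ hx hy =>
      obtain ⟨c, rfl⟩ := hx; obtain ⟨d, rfl⟩ := hy
      exact ⟨c * d, by rw [hh, hh, hh, ← map_mul, hD_mul]⟩
    | inv _ _ hx =>
      obtain ⟨c, rfl⟩ := hx
      exact ⟨c⁻¹, by rw [hh, hh, ← map_inv, hD_inv]⟩
  obtain ⟨c, rfl⟩ := hcl z hz
  obtain ⟨f, rfl⟩ := A.Nplus_le_range hx
  rw [map_mul, map_mul, A.φ_eN, A.hφρ, hh, A.φ_L] at h1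
  have h11 := congrArg (fun g : Matrix.symplecticGroup (Fin (k + 3)) F => g.1.toBlocks₁₁) h1
  change (fromBlocks 1 (symMat f) 0 1 * (fromBlocks M.1 0 0 (M⁻¹).1ᵀ *
    fromBlocks (diagonal (dOne 0 ((hD c).1 0 0))) (diagonal (Pi.single 0 ((hD c).1 0 1)))
      (diagonal (Pi.single 0 ((hD c).1 1 0))) (diagonal (dOne 0 ((hD c).1 1 1))))).toBlocks₁₁ =
    (1 : Matrix (Fin (k + 3) ⊕ Fin (k + 3)) (Fin (k + 3) ⊕ Fin (k + 3)) F).toBlocks₁₁ at h11
  simp only [fromBlocks_multiply, toBlocks_fromBlocks₁₁] at h11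
  rw [← fromBlocks_one, toBlocks_fromBlocks₁₁] at h11
  simp [coe_hD] at h11
  have hc : c = 1 := by
    have := congrArg Matrix.det h11
    rw [Matrix.det_mul, M.2, one_mul, Matrix.det_diagonal, Matrix.det_one] at this
    simp [dOne, Finset.prod_update_of_mem] at this
    exact this
  subst hc
  have hM : M = 1 := Subtype.ext (by simpa [dOne] using h11)
  subst hM
  simp only [hD_one, map_one, mul_one] at h1
  have hS := up_zero_iff (h := symMat_symm f) h1
  have hf : f = 1 := by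
    funext p
    obtain ⟨⟨i, j⟩, hij⟩ := p
    have h2 := congrFun (congrFun hS i) j
    simp only [symMat, Matrix.of_apply, Matrix.zero_apply, min_eq_left hij, max_eq_right hij, toAdd_eq_zero] at h2
    exact h2
  subst hf
  simp [hh, hD_one]

theorem tv_mem (i j : Fin (k + 3)) (hij : i ≠ j) (t : F) :
    A.ρ (tv i j t) ∈ Subgroup.closure ((A.B : Set G) ∪ Set.range A.n) := by
  set C := Subgroup.closure ((A.B : Set G) ∪ Set.range A.n)
  have hpos : ∀ i j : Fin (k + 3), i < j → ∀ t, A.ρ (tv i j t) ∈ C := fun i j h t =>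
    Subgroup.subset_closure (Or.inl (A.U_le_B (A.Xp_le_U (Sum.inl ⟨(i, j), h⟩) (by rw [A.Xp_inl]; exact A.tv_mem_XA t))))
  have hadj : ∀ a : Fin (k + 2), ∀ t, A.ρ (tv a.succ a.castSucc t) ∈ C := by
    intro a t
    have hn : A.n (Sum.inl a) ∈ C := Subgroup.subset_closure (Or.inr ⟨_, rfl⟩)
    obtain ⟨m, c, hm, e⟩ := A.n_mon a
    obtain ⟨u, hu⟩ : ∃ u, c a.castSucc * u * (c a.succ)⁻¹ = t :=
      ⟨(c a.castSucc)⁻¹ * t * c a.succ, by field_simp [hm.ne a.castSucc, hm.ne a.succ]⟩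
    have h2 := hm.mul_tv (castSucc_ne_succ a) u
    rw [Equiv.swap_apply_left, Equiv.swap_apply_right, hu] at h2
    rw [← h2, map_mul, map_mul, map_inv, ← e]
    exact mul_mem (mul_mem hn (hpos _ _ Fin.castSucc_lt_succ u)) (inv_mem hn)
  rcases lt_or_gt_of_ne hij with h | h
  · exact hpos i j h t
  · induction i using Fin.induction generalizing t with
    | zero => exact absurd h (Fin.not_lt_zero _)
    | succ a ih =>
      by_cases hj : j = a.castSucc
      · subst hj; exact hadj a t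
      · have hlt : j < a.castSucc := lt_of_le_of_ne (Fin.le_castSucc_iff.2 h) hj
        have hc := (stRel (F := F) (k := k)).prod a.succ a.castSucc j (castSucc_ne_succ a).symm hlt.ne' h.ne' t 1
        rw [mul_one] at hc
        rw [← hc, map_mul, map_mul, map_mul, map_inv, map_inv]
        exact mul_mem (mul_mem (mul_mem (hadj a t) (ih hlt.ne' 1 hlt)) (inv_mem (hadj a t))) (inv_mem (ih hlt.ne' 1 hlt))

theorem closure_B_n : Subgroup.closure ((A.B : Set G) ∪ Set.range A.n) = ⊤ := by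
  set C := Subgroup.closure ((A.B : Set G) ∪ Set.range A.n)
  have hρ : ∀ M, A.ρ M ∈ C := fun M => by
    have : C.comap A.ρ = ⊤ := CfsgLib.Linear.sl_eq_top_of_transvections fun i j hij t => by
      rw [Subgroup.mem_comap, show Matrix.SpecialLinearGroup.transvection hij t = tv i j t by rw [tv, dif_neg hij]]
      exact A.tv_mem i j hij t
    exact (this ▸ Subgroup.mem_top M : M ∈ _)
  have hLz : ∀ g, A.L (Fin.last (k + 2)) g ∈ C := fun g => by
    have : C.comap (A.L (Fin.last (k + 2))) = ⊤ := by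
      rw [eq_top_iff, ← closure_xU_wW (F := F), Subgroup.closure_le]
      rintro _ (⟨t, rfl⟩ | rfl)
      · exact Subgroup.subset_closure (Or.inl (A.U_le_B (A.Xp_le_U (srPR (Sum.inr ())) (by
          rw [srPR, A.Xp_inr_self]; exact mem_rng _ t))))
      · exact Subgroup.subset_closure (Or.inr ⟨Sum.inr (), rfl⟩)
    exact (this ▸ Subgroup.mem_top g : g ∈ _)
  have hL : ∀ i g, A.L i g ∈ C := fun i g => by
    have hm := isMon_monOf (F := F) (Equiv.swap (Fin.last (k + 2)) i) (Fin.last (k + 2))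
    have e := A.mon_L hm (Fin.last (k + 2)) (conjD (dOne (Fin.last (k + 2)) ((Equiv.Perm.sign (Equiv.swap (Fin.last (k + 2)) i) : ℤ) : F) (Fin.last (k + 2)))⁻¹ g)
    rw [Equiv.swap_apply_left, conjD_conjD (hm.ne _) (inv_ne_zero (hm.ne _)), mul_inv_cancel₀ (hm.ne _), conjD_one] at e
    rw [← e]
    exact mul_mem (mul_mem (hρ _) (hLz _)) (inv_mem (hρ _))
  rw [eq_top_iff, ← A.hgen, sup_le_iff]
  refine ⟨by rintro _ ⟨M, rfl⟩; exact hρ M, ?_⟩
  rintro _ ⟨g, rfl⟩
  have : C.comap A.σ = ⊤ := by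
    rw [eq_top_iff, ← closure_gen (F := F), Subgroup.closure_le]
    rintro _ ((⟨t, rfl⟩ | ⟨t, rfl⟩) | rfl | rfl)
    · show A.σ _ ∈ C; rw [A.glue]; exact hρ _
    · show A.σ (embB _) ∈ C; rw [embB_eq_long, A.σ_long1]; exact hL _ _
    · show A.σ _ ∈ C; rw [A.glue]; exact hρ _
    · show A.σ (embB _) ∈ C; rw [embB_eq_long, A.σ_long1]; exact hL _ _
  exact (this ▸ Subgroup.mem_top g : g ∈ _)

theorem surjective : Function.Surjective A.φ := by
  rw [← MonoidHom.range_eq_top]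
  refine sp_eq_top (m := k + 1) _ (fun g => ⟨A.ρ g, A.hφρ g⟩) (fun S hS => ?_) 0 ⟨A.L 0 wW, A.φ_L 0 _⟩
  refine ⟨A.eN fun p => Multiplicative.ofAdd (S p.1.1 p.1.2), ?_⟩
  rw [A.φ_eN]
  apply Subtype.ext
  show fromBlocks 1 _ 0 1 = fromBlocks 1 S 0 1
  congr 1
  ext a b
  rcases le_total a b with h | h
  · simp [symMat, min_eq_left h, max_eq_right h]
  · simp only [symMat, Matrix.of_apply, min_eq_right h, max_eq_left h, toAdd_ofAdd]
    exact congrFun (congrFun hS a) b

include A in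
/-- The amalgam is the symplectic group. -/
theorem bijective : Function.Bijective A.φ :=
  ⟨CfsgLib.PresLib.injective_of_BNB (B := A.B) (N := A.N) (n := A.n) (X := fun r => A.Xp (srPR r)) A.φ
    A.n_mem_N A.n_sq_mem A.dec A.rank
    (fun r w hw => by obtain ⟨f, hf⟩ := A.act_of_N hw; exact A.side r hf)
    A.closure_B_n (fun w hw h => A.N_inter_B hw h) A.injective_B, A.surjective⟩

end Amalgam

end CfsgLib.SpnPres
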