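import Cfsg.Agent.SpnPres.Roots
import Cfsg.Agent.SteinbergSLn.Subgroups

/-!
# The Siegel radical is abelian and normalised by the Levi subgroup
-/

set_option autoImplicit false

namespace CfsgLib.SpnPres

open Matrix CfsgLib.SL2Pres CfsgLib.SLnPres CfsgLib.Sp4Pres CfsgLib.SteinbergSLn

variable {G F : Type*} [Group G] [Field F] {k : ℕ}

theorem rng_comm {f f' : F → G} (h : ∀ s t, Commute (f s) (f' t)) {x : G} (hx : x ∈ rng f) {y : G}
    (hy : y ∈ rng f') : Commute x y := by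
  have h1 : rng f' ≤ Subgroup.centralizer (Set.range f) := rng_le fun t => by
    rw [Subgroup.mem_centralizer_iff]; rintro _ ⟨s, rfl⟩; exact h s t
  have h2 : rng f ≤ Subgroup.centralizer (rng f' : Set G) := rng_le fun s => by
    rw [Subgroup.mem_centralizer_iff]; intro z hz; exact (Subgroup.mem_centralizer_iff.1 (h1 hz) _ ⟨s, rfl⟩).symm
  exact (Subgroup.mem_centralizer_iff.1 (h2 hx) y hy).symm

theorem mem_normalizer_of_cnj {g : G} {H : Subgroup G} (h : cnj g H = H) : g ∈ Subgroup.normalizer (H : Set G) := by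
  rw [Subgroup.mem_normalizer_iff]
  intro x
  constructor
  · intro hx; rw [← h]; exact mem_cnj hx
  · intro hx
    rw [← h] at hx
    obtain ⟨y, hy, e⟩ := hx
    have : x = y := by
      simp only [MulEquiv.coe_toMonoidHom, MulAut.conj_apply] at e
      exact mul_left_cancel (mul_right_cancel e.symm)
    exact this ▸ hy

/-- Closed under conjugation by every element of a one-parameter subgroup. -/
theorem rng_le_normalizer {f : F → G} (hneg : ∀ t, f (-t) = (f t)⁻¹) {H : Subgroup G}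
    (h : ∀ t, cnj (f t) H ≤ H) : rng f ≤ Subgroup.normalizer (H : Set G) :=
  rng_le fun t => mem_normalizer_of_cnj (le_antisymm (h t) fun x hx => by
    have := h (-t) (mem_cnj (g := f (-t)) hx)
    refine ⟨_, this, ?_⟩
    simp [hneg, mul_assoc])

theorem cnj_iSup {ι : Sort*} (g : G) (H : ι → Subgroup G) : cnj g (⨆ i, H i) = ⨆ i, cnj g (H i) :=
  Subgroup.map_iSup _ _

theorem cnj_rng_le {g : G} {f : F → G} {H : Subgroup G} (h : ∀ t, g * f t * g⁻¹ ∈ H) : cnj g (rng f) ≤ H := by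
  rw [cnj_rng]; exact rng_le h

namespace Amalgam

variable (A : Amalgam G F k)

theorem stRel : StRel (tv : Fin (k + 3) → Fin (k + 3) → F → Matrix.SpecialLinearGroup (Fin (k + 3)) F)
    (toMat (Fin (k + 3)) F) :=
  stRel_SL fun i j => by
    obtain ⟨m, hm⟩ := Finset.card_pos.1 (show 0 < ((Finset.univ : Finset (Fin (k + 3))) \ {i, j}).card by
      have := Finset.le_card_sdiff ({i, j} : Finset (Fin (k + 3))) Finset.univ
      have := Finset.card_le_two (a := i) (b := j)
      rw [Finset.card_univ, Fintype.card_fin] at *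
      omega)
    simp only [Finset.mem_sdiff, Finset.mem_univ, true_and, Finset.mem_insert, Finset.mem_singleton, not_or] at hm
    exact ⟨m, hm⟩

theorem ρ_tv_add {i j : Fin (k + 3)} (h : i ≠ j) (s t : F) :
    A.ρ (tv i j (s + t)) = A.ρ (tv i j s) * A.ρ (tv i j t) := by
  rw [(stRel (F := F) (k := k)).add i j h, map_mul]

theorem ρ_tv_neg {i j : Fin (k + 3)} (h : i ≠ j) (t : F) : A.ρ (tv i j (-t)) = (A.ρ (tv i j t))⁻¹ := by
  rw [← map_inv, SteinbergSLn.neg (stRel (F := F) (k := k)) h]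

theorem ρ_tv_comm {i j a b : Fin (k + 3)} (hij : i ≠ j) (hab : a ≠ b) (hib : i ≠ b) (hja : j ≠ a) (s t : F) :
    Commute (A.ρ (tv i j s)) (A.ρ (tv a b t)) :=
  ((stRel (F := F) (k := k)).comm i j a b hij hab hib hja s t).map A.ρ

theorem L_xU_neg (i : Fin (k + 3)) (t : F) : A.L i (xU (-t)) = (A.L i (xU t))⁻¹ := by
  refine eq_inv_of_mul_eq_one_left ?_
  rw [← map_mul, ← xU_add, neg_add_cancel, xU_zero, map_one]

theorem X_ab {i j : Fin (k + 3)} (h : i ≠ j) : A.X (i, false) (j, true) = A.XA i j := by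
  rw [A.X_ne h]
  simp [P, Q, cnj_one]

/-- The elements at `e_i + e_j`. -/
def bgen (i j : Fin (k + 3)) (t : F) : G := A.s j * A.ρ (tv i j t) * (A.s j)⁻¹

theorem X_bb {i j : Fin (k + 3)} (h : i ≠ j) : A.X (i, false) (j, false) = rng (A.bgen i j) := by
  rw [A.X_ne h]
  simp [P, Q, XA, cnj_rng]
  rfl

theorem X_ll (i : Fin (k + 3)) : A.X (i, false) (i, false) = rng (fun t => A.L i (xU t)) := by
  rw [A.X_self]; rfl

theorem bgen_ν {i j : Fin (k + 3)} (h : i ≠ j) (t : F) : A.bgen i j t = A.ν i j (xAB (-t)) := by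
  rw [← wB_xa, neg_neg, embB_eq_long, map_mul, map_mul, map_inv, A.ν_long1, A.ν_xU h]
  rfl

theorem ν_xAB {i j : Fin (k + 3)} (h : i ≠ j) (t : F) : A.ν i j (xAB t) = A.bgen i j (-t) := by
  rw [A.bgen_ν h, neg_neg]

theorem ν_xC {i j : Fin (k + 3)} (h : i ≠ j) (t : F) : A.ν i j (xC t) = A.L i (xU t) := by
  rw [xC_eq_long, A.ν_long0 h]

theorem comm_short_core {i j a b : Fin (k + 3)} (hij : i ≠ j) (hab : a ≠ b) (hbi : b ≠ i) (hbj : b ≠ j)
    (hja : j ≠ a) (s t : F) : Commute (A.bgen i j s) (A.bgen a b t) := by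
  have c1 : Commute (A.s b) (A.ρ (tv i j s)) := A.L_comm_tv hij hbi hbj wW s
  have c2 : Commute (A.s j) (A.ρ (tv a b t)) := A.L_comm_tv hab hja hbj.symm wW t
  have e1 : A.bgen i j s = A.s j * A.s b * A.ρ (tv i j s) * (A.s j * A.s b)⁻¹ := by
    calc A.bgen i j s = A.s j * (A.s b * A.ρ (tv i j s) * (A.s b)⁻¹) * (A.s j)⁻¹ := by
          rw [c1.eq, mul_inv_cancel_right, bgen]
      _ = _ := by group
  have e2 : A.bgen a b t = A.s j * A.s b * A.ρ (tv a b t) * (A.s j * A.s b)⁻¹ := by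
    rw [(A.s_comm hbj.symm).eq]
    calc A.bgen a b t = A.s b * (A.s j * A.ρ (tv a b t) * (A.s j)⁻¹) * (A.s b)⁻¹ := by
          rw [c2.eq, mul_inv_cancel_right, bgen]
      _ = _ := by group
  rw [e1, e2]
  exact (A.ρ_tv_comm hij hab hbi.symm hja s t).map (MulAut.conj (A.s j * A.s b)).toMonoidHom

theorem comm_long_short {i a b : Fin (k + 3)} (hab : a ≠ b) (hib : i ≠ b) (s t : F) :
    Commute (A.L i (xU s)) (A.bgen a b t) := by
  by_cases hia : i = a
  · subst hia
    rw [← A.ν_xC hab, A.bgen_ν hab]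
    exact (xAB_comm_xC _ _).symm.map _
  · have h1 : Commute (A.L i (xU s)) (A.s b) := A.L_comm hib _ _
    exact (h1.mul_right (A.L_comm_tv hab hia hib _ t)).mul_right h1.inv_right

theorem comm_X {i j a b : Fin (k + 3)} {x y : G} (hx : x ∈ A.X (i, false) (j, false))
    (hy : y ∈ A.X (a, false) (b, false)) : Commute x y := by
  by_cases hij : i = j
  · subst hij
    rw [A.X_ll] at hx
    by_cases hab : a = b
    · subst hab
      rw [A.X_ll] at hy
      refine rng_comm (fun s t => ?_) hx hy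
      by_cases hia : i = a
      · subst hia; exact (xU_comm s t).map (A.L i)
      · exact A.L_comm hia _ _
    · by_cases hib : i = b
      · subst hib
        rw [A.X_symm, A.X_bb (Ne.symm hab)] at hy
        exact rng_comm (fun s t => A.comm_long_short (Ne.symm hab) (Ne.symm hab) s t) hx hy
      · rw [A.X_bb hab] at hy
        exact rng_comm (fun s t => A.comm_long_short hab hib s t) hx hy
  by_cases hab : a = b
  · subst hab
    rw [A.X_ll] at hy
    by_cases haj : a = j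
    · subst haj
      rw [A.X_symm, A.X_bb (Ne.symm hij)] at hx
      exact rng_comm (fun s t => (A.comm_long_short (Ne.symm hij) (Ne.symm hij) t s).symm) hx hy
    · rw [A.X_bb hij] at hx
      exact rng_comm (fun s t => (A.comm_long_short hij haj t s).symm) hx hy
  -- two short roots
  by_cases hsame : i = a ∧ j = b ∨ i = b ∧ j = a
  · have hy' : y ∈ A.X (i, false) (j, false) := by
      rcases hsame with ⟨rfl, rfl⟩ | ⟨rfl, rfl⟩
      · exact hy
      · rwa [A.X_symm]
    rw [A.X_bb hij] at hx hy'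
    refine rng_comm (fun s t => ?_) hx hy'
    rw [A.bgen_ν hij, A.bgen_ν hij]
    refine Commute.map ?_ _
    rw [Commute, SemiconjBy, ← xAB_add, ← xAB_add, add_comm]
  -- choose private second indices
  obtain ⟨i', j', hij', hj'a, hj'b, hx'⟩ : ∃ i' j', i' ≠ j' ∧ j' ≠ a ∧ j' ≠ b ∧ x ∈ A.X (i', false) (j', false) := by
    by_cases hj : j = a ∨ j = b
    · refine ⟨j, i, Ne.symm hij, ?_, ?_, by rwa [A.X_symm]⟩
      · rintro rfl
        rcases hj with rfl | rfl
        · exact hij rfl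
        · exact hsame (Or.inl ⟨rfl, rfl⟩)
      · rintro rfl
        rcases hj with rfl | rfl
        · exact hsame (Or.inr ⟨rfl, rfl⟩)
        · exact hij rfl
    · push Not at hj
      exact ⟨i, j, hij, hj.1, hj.2, hx⟩
  obtain ⟨a', b', hab', hb'i, hb'j, hj'a', hy'⟩ : ∃ a' b', a' ≠ b' ∧ b' ≠ i' ∧ b' ≠ j' ∧ j' ≠ a' ∧
      y ∈ A.X (a', false) (b', false) := by
    by_cases hb : b = i'
    · exact ⟨b, a, Ne.symm hab, fun e => hab (e.trans hb.symm), hj'a.symm, hj'b, by rwa [A.X_symm]⟩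
    · exact ⟨a, b, hab, hb, hj'b.symm, hj'a, hy⟩
  rw [A.X_bb hij'] at hx'
  rw [A.X_bb hab'] at hy'
  exact rng_comm (fun s t => A.comm_short_core hij' hab' hb'i hb'j hj'a' s t) hx' hy'

/-- The Siegel radical. -/
def Nplus : Subgroup G := ⨆ p : Fin (k + 3) × Fin (k + 3), A.X (p.1, false) (p.2, false)

theorem le_Nplus (i j : Fin (k + 3)) : A.X (i, false) (j, false) ≤ A.Nplus :=
  le_iSup (fun p : Fin (k + 3) × Fin (k + 3) => A.X (p.1, false) (p.2, false)) (i, j)

theorem bgen_mem {i j : Fin (k + 3)} (h : i ≠ j) (t : F) : A.bgen i j t ∈ A.Nplus :=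
  A.le_Nplus i j (by rw [A.X_bb h]; exact mem_rng _ t)

theorem L_mem (i : Fin (k + 3)) (t : F) : A.L i (xU t) ∈ A.Nplus :=
  A.le_Nplus i i (by rw [A.X_ll]; exact mem_rng _ t)

theorem Nplus_comm {x y : G} (hx : x ∈ A.Nplus) (hy : y ∈ A.Nplus) : Commute x y := by
  have h1 : ∀ p : Fin (k + 3) × Fin (k + 3), A.Nplus ≤ Subgroup.centralizer (A.X (p.1, false) (p.2, false) : Set G) := by
    refine fun p => iSup_le fun p' y hy => ?_
    rw [Subgroup.mem_centralizer_iff]
    exact fun x hx => (A.comm_X hx hy).eq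
  have h2 : A.Nplus ≤ Subgroup.centralizer (A.Nplus : Set G) := by
    refine iSup_le fun p x hx => ?_
    rw [Subgroup.mem_centralizer_iff]
    exact fun y hy => (Subgroup.mem_centralizer_iff.1 (h1 p hy) x hx).symm
  exact (Subgroup.mem_centralizer_iff.1 (h2 hx) y hy).symm

theorem conj_tv_bgen {i j a b : Fin (k + 3)} (hij : i ≠ j) (hab : a ≠ b) (hbi : b ≠ i) (hbj : b ≠ j) (t u : F) :
    A.ρ (tv i j t) * A.bgen a b u * (A.ρ (tv i j t))⁻¹ ∈ A.Nplus := by
  have hc : Commute (A.ρ (tv i j t)) (A.s b) := (A.L_comm_tv hij hbi hbj wW t).symm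
  have e : A.ρ (tv i j t) * A.bgen a b u * (A.ρ (tv i j t))⁻¹ =
      A.s b * (A.ρ (tv i j t) * A.ρ (tv a b u) * (A.ρ (tv i j t))⁻¹) * (A.s b)⁻¹ := by
    calc A.ρ (tv i j t) * A.bgen a b u * (A.ρ (tv i j t))⁻¹
        = A.ρ (tv i j t) * A.s b * A.ρ (tv a b u) * ((A.s b)⁻¹ * (A.ρ (tv i j t))⁻¹) := by
          rw [bgen]; group
      _ = A.s b * A.ρ (tv i j t) * A.ρ (tv a b u) * ((A.ρ (tv i j t))⁻¹ * (A.s b)⁻¹) := by
          rw [hc.eq, hc.inv_inv.symm.eq]
      _ = _ := by group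
  rw [e, ← map_inv, ← map_mul, ← map_mul]
  by_cases hja : j = a
  · subst hja
    rw [conj_fst (stRel (F := F) (k := k)) hij hab hbi.symm, map_mul]
    have e2 : A.s b * (A.ρ (tv i b (t * u)) * A.ρ (tv j b u)) * (A.s b)⁻¹ = A.bgen i b (t * u) * A.bgen j b u := by
      rw [bgen, bgen]; group
    rw [e2]
    exact mul_mem (A.bgen_mem hbi.symm _) (A.bgen_mem hab _)
  · rw [conj_comm (stRel (F := F) (k := k)) hij hab hbi.symm hja]
    exact A.bgen_mem hab u

theorem conj_tv_same {i j : Fin (k + 3)} (hij : i ≠ j) (t u : F) :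
    A.ρ (tv i j t) * A.bgen i j u * (A.ρ (tv i j t))⁻¹ ∈ A.Nplus := by
  rw [← A.ν_xU hij, A.bgen_ν hij, ← map_mul, ← map_inv, ← map_mul, xa_xAB, mul_inv_cancel_right, map_mul,
    A.ν_xC hij, A.ν_xAB hij]
  exact mul_mem (A.L_mem i _) (A.bgen_mem hij _)

theorem conj_tv_long {i j : Fin (k + 3)} (hij : i ≠ j) (a : Fin (k + 3)) (t u : F) :
    A.ρ (tv i j t) * A.L a (xU u) * (A.ρ (tv i j t))⁻¹ ∈ A.Nplus := by
  by_cases hai : a = i
  · subst hai
    rw [← A.ν_xU hij, ← A.ν_xC hij, ← map_mul, ← map_inv, ← map_mul, (xa_xC t u).eq, mul_inv_cancel_right,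
      A.ν_xC hij]
    exact A.L_mem _ _
  by_cases haj : a = j
  · subst haj
    rw [← A.ν_xU hij, ← A.ν_long1 (i := i) (j := a), ← embB_eq_long, ← map_mul, ← map_inv, ← map_mul, xa_xb,
      mul_inv_cancel_right, map_mul, map_mul, A.ν_xC hij, A.ν_xAB hij, embB_eq_long, A.ν_long1]
    exact mul_mem (mul_mem (A.L_mem i _) (A.bgen_mem hij _)) (A.L_mem a _)
  rw [← (A.L_comm_tv hij hai haj (xU u) t).eq, mul_inv_cancel_right]
  exact A.L_mem a u

theorem cnj_tv_Nplus {i j : Fin (k + 3)} (hij : i ≠ j) (t : F) : cnj (A.ρ (tv i j t)) A.Nplus ≤ A.Nplus := by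
  rw [Nplus, cnj_iSup]
  refine iSup_le fun ⟨a, b⟩ => ?_
  by_cases hab : a = b
  · subst hab
    rw [A.X_ll]
    exact cnj_rng_le fun u => A.conj_tv_long hij a t u
  by_cases hb : b = i ∨ b = j
  · by_cases ha : a = i ∨ a = j
    · have hX : A.X (a, false) (b, false) = A.X (i, false) (j, false) := by
        rcases ha with rfl | rfl <;> rcases hb with rfl | rfl
        · exact absurd rfl hab
        · rfl
        · exact A.X_symm _ _
        · exact absurd rfl hab
      show cnj _ (A.X (a, false) (b, false)) ≤ _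
      rw [hX, A.X_bb hij]
      exact cnj_rng_le fun u => A.conj_tv_same hij t u
    · push Not at ha
      show cnj _ (A.X (a, false) (b, false)) ≤ _
      rw [A.X_symm, A.X_bb (Ne.symm hab)]
      exact cnj_rng_le fun u => A.conj_tv_bgen hij (Ne.symm hab) ha.1 ha.2 t u
  · push Not at hb
    show cnj _ (A.X (a, false) (b, false)) ≤ _
    rw [A.X_bb hab]
    exact cnj_rng_le fun u => A.conj_tv_bgen hij hab hb.1 hb.2 t u

theorem tv_mem_normalizer {i j : Fin (k + 3)} (hij : i ≠ j) (t : F) :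
    A.ρ (tv i j t) ∈ Subgroup.normalizer (A.Nplus : Set G) :=
  rng_le_normalizer (A.ρ_tv_neg hij) (A.cnj_tv_Nplus hij) (mem_rng _ t)

theorem ρ_normalizes (M : Matrix.SpecialLinearGroup (Fin (k + 3)) F) :
    A.ρ M ∈ Subgroup.normalizer (A.Nplus : Set G) := by
  have : (Subgroup.normalizer (A.Nplus : Set G)).comap A.ρ = ⊤ :=
    CfsgLib.Linear.sl_eq_top_of_transvections fun i j hij t => by
      rw [Subgroup.mem_comap, show Matrix.SpecialLinearGroup.transvection hij t = tv i j t by rw [tv, dif_neg hij]]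
      exact A.tv_mem_normalizer hij t
  exact (this ▸ Subgroup.mem_top M : M ∈ _)

end Amalgam

end CfsgLib.SpnPres
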