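import Cfsg.Agent.SpnPres.Monomial

/-!
# Identities in `Sp₄` and the embedding on the first two coordinates
-/

set_option autoImplicit false
set_option maxRecDepth 4000

namespace CfsgLib.SpnPres

open Matrix CfsgLib.SL2Pres CfsgLib.SLnPres CfsgLib.Sp4Pres

variable {ι F : Type*} [Fintype ι] [DecidableEq ι] [Field F] {k : ℕ}

/-- Lower unitriangular. -/
def xD (t : F) : Matrix.SpecialLinearGroup (Fin 2) F := ⟨!![1, 0; t, 1], by simp [det_fin_two]⟩

theorem coe_xD (t : F) : (xD t : Matrix.SpecialLinearGroup (Fin 2) F).1 = !![1, 0; t, 1] := rfl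

theorem xD_add (s t : F) : xD (s + t) = xD s * xD t := by
  apply Subtype.ext
  rw [Matrix.SpecialLinearGroup.coe_mul, coe_xD, coe_xD, coe_xD]
  ext i j; fin_cases i <;> fin_cases j <;> simp [Matrix.mul_apply, Fin.sum_univ_two]

theorem wW_conj_xU (t : F) : wW * xU t * wW⁻¹ = xD (-t) := by
  rw [mul_inv_eq_iff_eq_mul]
  apply Subtype.ext
  rw [Matrix.SpecialLinearGroup.coe_mul, Matrix.SpecialLinearGroup.coe_mul, coe_xD, coe_xU, coe_wW]
  ext i j; fin_cases i <;> fin_cases j <;> simp [Matrix.mul_apply, Fin.sum_univ_two]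

theorem wW_conj_xD (t : F) : wW * xD t * wW⁻¹ = xU (-t) := by
  rw [mul_inv_eq_iff_eq_mul]
  apply Subtype.ext
  rw [Matrix.SpecialLinearGroup.coe_mul, Matrix.SpecialLinearGroup.coe_mul, coe_xD, coe_xU, coe_wW]
  ext i j; fin_cases i <;> fin_cases j <;> simp [Matrix.mul_apply, Fin.sum_univ_two]

/-- The element of the rank one Bruhat decomposition. -/
theorem wW_mul_xU {t : F} (ht : t ≠ 0) :
    wW * xU t = hD (Units.mk0 (-t⁻¹) (neg_ne_zero.2 (inv_ne_zero ht))) * xU (-t) * (wW * xU (-t⁻¹) * wW⁻¹) := by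
  rw [wW_conj_xU]
  apply Subtype.ext
  simp only [Matrix.SpecialLinearGroup.coe_mul, coe_xD, coe_xU, coe_wW, coe_hD]
  ext i j; fin_cases i <;> fin_cases j <;> simp [Matrix.mul_apply, Fin.sum_univ_two, ht]

theorem conjD_xD {c : F} (hc : c ≠ 0) (t : F) : conjD c (xD t) = xD (c⁻¹ * t * c⁻¹) := by
  apply Subtype.ext
  rw [conjD_apply hc, coe_xD, coe_xD]
  ext i j; fin_cases i <;> fin_cases j <;> simp

theorem embA_eq_levi (g : Matrix.SpecialLinearGroup (Fin 2) F) : embA g = levi g := by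
  apply Subtype.ext
  rw [coe_embA, coe_levi, Matrix.SpecialLinearGroup.coe_inv, Matrix.adjugate_fin_two]
  refine ext_blocks ?_ ?_ ?_ ?_ <;> intro i j <;> fin_cases i <;> fin_cases j <;> simp

theorem embB_eq_long (g : Matrix.SpecialLinearGroup (Fin 2) F) : embB g = embLong (1 : Fin 2) g := by
  apply Subtype.ext
  rw [coe_embB, coe_embLong]
  refine ext_blocks ?_ ?_ ?_ ?_ <;> intro i j <;> fin_cases i <;> fin_cases j <;> simp [dOne_apply, diagonal]

theorem xC_eq_long (t : F) : xC t = embLong (0 : Fin 2) (xU t) := by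
  apply Subtype.ext
  rw [coe_xC, coe_embLong, coe_xU, ← fromBlocks_toBlocks (fromBlocks (1 : Matrix (Fin 2) (Fin 2) F) !![t, 0; 0, 0] 0 1)]
  refine ext_blocks ?_ ?_ ?_ ?_ <;> intro i j <;> fin_cases i <;> fin_cases j <;> simp [dOne_apply, diagonal]

theorem embLong_commute {i j : ι} (hij : i ≠ j) (g h : Matrix.SpecialLinearGroup (Fin 2) F) :
    Commute (embLong i g) (embLong j h) := by
  apply Subtype.ext
  rw [Submonoid.coe_mul, Submonoid.coe_mul, coe_embLong, coe_embLong, fromBlocks_multiply, fromBlocks_multiply]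
  simp only [diagonal_mul_diagonal, diagonal_add, fromBlocks_inj, diagonal_eq_diagonal_iff]
  refine ⟨fun a => ?_, fun a => ?_, fun a => ?_, fun a => ?_⟩ <;>
    (by_cases hi : a = i <;> by_cases hj : a = j
     · exact absurd (hi.symm.trans hj) hij
     all_goals simp [dOne_apply, hi, hj, hij, hij.symm])

theorem xAB_add (s t : F) : xAB (s + t) = (xAB s * xAB t : Matrix.symplecticGroup (Fin 2) F) := by
  apply Subtype.ext
  simp only [Submonoid.coe_mul, coe_xAB, fromBlocks_multiply]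
  refine ext_blocks ?_ ?_ ?_ ?_ <;> intro i j <;> fin_cases i <;> fin_cases j <;>
    simp [Matrix.mul_apply, Fin.sum_univ_two, add_comm]

theorem xAB_comm_xC (s t : F) : Commute (xAB s) (xC t : Matrix.symplecticGroup (Fin 2) F) := by
  apply Subtype.ext
  simp only [Submonoid.coe_mul, coe_xAB, coe_xC, fromBlocks_multiply]
  refine ext_blocks ?_ ?_ ?_ ?_ <;> intro i j <;> fin_cases i <;> fin_cases j <;>
    simp [Matrix.mul_apply, Fin.sum_univ_two]

theorem coe_long0 (g : Matrix.SpecialLinearGroup (Fin 2) F) :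
    (embLong (0 : Fin 2) g : Matrix.symplecticGroup (Fin 2) F).1 =
      fromBlocks !![g.1 0 0, 0; 0, 1] !![g.1 0 1, 0; 0, 0] !![g.1 1 0, 0; 0, 0] !![g.1 1 1, 0; 0, 1] := by
  rw [coe_embLong]
  refine ext_blocks ?_ ?_ ?_ ?_ <;> intro i j <;> fin_cases i <;> fin_cases j <;> simp [dOne_apply, diagonal]

theorem wC_xD (t : F) : embLong (0 : Fin 2) wW * embA (xD t) * (embLong (0 : Fin 2) wW)⁻¹ =
    (xAB (-t) : Matrix.symplecticGroup (Fin 2) F) := by
  rw [mul_inv_eq_iff_eq_mul]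
  apply Subtype.ext
  simp only [Submonoid.coe_mul, coe_embA, coe_long0, coe_wW, coe_xD, coe_xAB, fromBlocks_multiply]
  refine ext_blocks ?_ ?_ ?_ ?_ <;> intro i j <;> fin_cases i <;> fin_cases j <;>
    simp [Matrix.mul_apply, Fin.sum_univ_two]

theorem hC_xa (c : Fˣ) (t : F) : embLong (0 : Fin 2) (hD c) * embA (xU t) * (embLong (0 : Fin 2) (hD c))⁻¹ =
    (embA (xU ((c : F) * t)) : Matrix.symplecticGroup (Fin 2) F) := by
  rw [mul_inv_eq_iff_eq_mul]
  apply Subtype.ext
  simp only [Submonoid.coe_mul, coe_embA, coe_long0, coe_hD, coe_xU, fromBlocks_multiply]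
  refine ext_blocks ?_ ?_ ?_ ?_ <;> intro i j <;> fin_cases i <;> fin_cases j <;>
    simp [Matrix.mul_apply, Fin.sum_univ_two, mul_comm, mul_left_comm]

theorem hC_xD (c : Fˣ) (t : F) : embLong (0 : Fin 2) (hD c) * embA (xD t) * (embLong (0 : Fin 2) (hD c))⁻¹ =
    (embA (xD (((c⁻¹ : Fˣ) : F) * t)) : Matrix.symplecticGroup (Fin 2) F) := by
  rw [mul_inv_eq_iff_eq_mul]
  apply Subtype.ext
  simp only [Submonoid.coe_mul, coe_embA, coe_long0, coe_hD, coe_xD, fromBlocks_multiply]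
  refine ext_blocks ?_ ?_ ?_ ?_ <;> intro i j <;> fin_cases i <;> fin_cases j <;>
    simp [Matrix.mul_apply, Fin.sum_univ_two, mul_comm, mul_left_comm]

theorem blk_xU (t : F) : (blk (xU t) : Matrix.SpecialLinearGroup (Fin (k + 3)) F) = tv 0 1 t := by
  have h01 : (0 : Fin (k + 3)) ≠ 1 := by simp [Fin.ext_iff]
  apply Subtype.ext
  ext a b
  rw [blk_apply, coe_tv h01]
  simp only [Matrix.transvection, Matrix.add_apply, Matrix.one_apply, Matrix.single_apply]
  obtain ⟨a, ha⟩ := a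
  obtain ⟨b, hb⟩ := b
  simp only [coe_xU, Fin.ext_iff, Fin.val_zero, Fin.val_one]
  rcases a with _ | _ | a <;> rcases b with _ | _ | b <;> simp

theorem blk_xD (t : F) : (blk (xD t) : Matrix.SpecialLinearGroup (Fin (k + 3)) F) = tv 1 0 t := by
  have h10 : (1 : Fin (k + 3)) ≠ 0 := by simp [Fin.ext_iff]
  apply Subtype.ext
  ext a b
  rw [blk_apply, coe_tv h10]
  simp only [Matrix.transvection, Matrix.add_apply, Matrix.one_apply, Matrix.single_apply]
  obtain ⟨a, ha⟩ := a
  obtain ⟨b, hb⟩ := b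
  simp only [coe_xD, Fin.ext_iff, Fin.val_zero, Fin.val_one]
  rcases a with _ | _ | a <;> rcases b with _ | _ | b <;> simp

theorem isMon_blk_hD (c : Fˣ) : IsMon (blk (hD c) : Matrix.SpecialLinearGroup (Fin (k + 3)) F) 1
    (fun b => if b.val = 0 then (c : F) else if b.val = 1 then ((c⁻¹ : Fˣ) : F) else 1) := by
  refine ⟨fun b => by split_ifs <;> simp, fun a b => ?_⟩
  obtain ⟨a, ha⟩ := a
  obtain ⟨b, hb⟩ := b
  simp only [blk_apply, coe_hD, Equiv.Perm.one_apply, Fin.ext_iff]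
  rcases a with _ | _ | a <;> rcases b with _ | _ | b <;> simp [eq_comm]

theorem isMon_blk_wW : IsMon (blk (wW (F := F)) : Matrix.SpecialLinearGroup (Fin (k + 3)) F) (Equiv.swap 0 1)
    (fun b => if b.val = 0 then -1 else 1) := by
  refine ⟨fun b => by split_ifs <;> simp, fun a b => ?_⟩
  obtain ⟨a, ha⟩ := a
  obtain ⟨b, hb⟩ := b
  simp only [blk_apply, coe_wW, Equiv.swap_apply_def, Fin.ext_iff, Fin.val_zero, Fin.val_one]
  rcases a with _ | _ | a <;> rcases b with _ | _ | b <;>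
    simp [apply_ite Fin.val, Fin.ext_iff, eq_comm]

theorem eTwo_symm (k : ℕ) (a : Fin (k + 3)) :
    (eTwo k).symm a = if h : a.val < 2 then Sum.inl ⟨a.val, h⟩ else Sum.inr ⟨a.val - 2, by omega⟩ := by
  rw [Equiv.symm_apply_eq]
  split_ifs with h
  · exact Fin.ext (by simp [eTwo_inl])
  · exact Fin.ext (by simp [eTwo_inr]; omega)

theorem embTwo_levi (g : Matrix.SpecialLinearGroup (Fin 2) F) :
    embTwo (levi g) = (levi (blk g) : Matrix.symplecticGroup (Fin (k + 3)) F) := by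
  apply Subtype.ext
  have e : ((blk g)⁻¹ : Matrix.SpecialLinearGroup (Fin (k + 3)) F) = blk g⁻¹ := (map_inv _ g).symm
  have eb : ∀ h : Matrix.SpecialLinearGroup (Fin 2) F, (blk (k := k) h).1 =
      (fromBlocks h.1 0 0 (1 : Matrix (Fin (k + 1)) (Fin (k + 1)) F)).submatrix (eTwo k).symm (eTwo k).symm :=
    fun h => rfl
  rw [coe_levi, e, eb, eb]
  ext (a | a) (b | b) <;>
    simp [embTwo, coe_reindexSp, coe_blockSp, coe_levi, fromBlocks_transpose]
  all_goals
    obtain ⟨a, rfl⟩ := (eTwo k).surjective a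
    obtain ⟨b, rfl⟩ := (eTwo k).surjective b
    rcases a with a | a <;> rcases b with b | b <;> simp [Matrix.one_apply, eq_comm]

theorem embTwo_long (g : Matrix.SpecialLinearGroup (Fin 2) F) :
    embTwo (embLong (0 : Fin 2) g) = (embLong 0 g : Matrix.symplecticGroup (Fin (k + 3)) F) := by
  apply Subtype.ext
  have h0 : ∀ a : Fin 2, eTwo k (Sum.inl a) = 0 ↔ a = 0 := fun a => by rw [Fin.ext_iff, eTwo_inl, Fin.ext_iff]; rfl
  have h1 : ∀ a, eTwo k (Sum.inr a) ≠ 0 := fun a => by rw [Ne, Fin.ext_iff, eTwo_inr, Fin.val_zero]; omega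
  ext (a | a) (b | b) <;>
    (obtain ⟨a, rfl⟩ := (eTwo k).surjective a
     obtain ⟨b, rfl⟩ := (eTwo k).surjective b
     rcases a with a | a <;> rcases b with b | b <;>
       simp [embTwo, coe_reindexSp, coe_blockSp, coe_embLong, diagonal, dOne_apply, Pi.single_apply, h0, h1,
         Matrix.one_apply])

theorem embTwo_xAB (t : F) :
    (embTwo (xAB t) : Matrix.symplecticGroup (Fin (k + 3)) F) =
      up (Matrix.single 0 1 t + Matrix.single 1 0 t) (by rw [transpose_add, transpose_single, transpose_single]; exact add_comm _ _) := by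
  apply Subtype.ext
  have h0 : ∀ a : Fin 2, eTwo k (Sum.inl a) = 0 ↔ a = 0 := fun a => by rw [Fin.ext_iff, eTwo_inl, Fin.ext_iff]; rfl
  have h2 : ∀ a : Fin 2, eTwo k (Sum.inl a) = 1 ↔ a = 1 := fun a => by rw [Fin.ext_iff, eTwo_inl, Fin.ext_iff]; rfl
  have h1 : ∀ a, eTwo k (Sum.inr a) ≠ 0 := fun a => by rw [Ne, Fin.ext_iff, eTwo_inr, Fin.val_zero]; omega
  have h3 : ∀ a, eTwo k (Sum.inr a) ≠ 1 := fun a => by rw [Ne, Fin.ext_iff, eTwo_inr, Fin.val_one]; omega
  ext (a | a) (b | b) <;>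
    (obtain ⟨a, rfl⟩ := (eTwo k).surjective a
     obtain ⟨b, rfl⟩ := (eTwo k).surjective b
     rcases a with a | a <;> rcases b with b | b <;>
       simp [embTwo, coe_reindexSp, coe_blockSp, coe_xAB, up, Matrix.single_apply, h0, h1, h2, h3, @eq_comm _ (0 : Fin (k + 3)) (eTwo k _),
         @eq_comm _ (1 : Fin (k + 3)) (eTwo k _), Matrix.one_apply])
  all_goals fin_cases a <;> fin_cases b <;> simp

theorem embTwo_injective :
    Function.Injective (embTwo (k := k) : Matrix.symplecticGroup (Fin 2) F →* Matrix.symplecticGroup (Fin (k + 3)) F) := by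
  intro M N h
  apply Subtype.ext
  ext (a | a) (b | b)
  · simpa [embTwo, coe_reindexSp, coe_blockSp, toBlocks₁₁] using
      congrFun (congrFun (congrArg Subtype.val h) (Sum.inl (eTwo k (Sum.inl a)))) (Sum.inl (eTwo k (Sum.inl b)))
  · simpa [embTwo, coe_reindexSp, coe_blockSp, toBlocks₁₂] using
      congrFun (congrFun (congrArg Subtype.val h) (Sum.inl (eTwo k (Sum.inl a)))) (Sum.inr (eTwo k (Sum.inl b)))
  · simpa [embTwo, coe_reindexSp, coe_blockSp, toBlocks₂₁] using
      congrFun (congrFun (congrArg Subtype.val h) (Sum.inr (eTwo k (Sum.inl a)))) (Sum.inl (eTwo k (Sum.inl b)))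
  · simpa [embTwo, coe_reindexSp, coe_blockSp, toBlocks₂₂] using
      congrFun (congrFun (congrArg Subtype.val h) (Sum.inr (eTwo k (Sum.inl a)))) (Sum.inr (eTwo k (Sum.inl b)))

end CfsgLib.SpnPres
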