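import Cfsg.Agent.SpnPres.Presentation
import Cfsg.Agent.SLnPres.Final

/-!
# Bounded presentations of `Sp₂ₙ` and `PSp₂ₙ`
-/

set_option autoImplicit false

namespace CfsgLib.SpnPres

open CfsgLib.SLnPres CfsgLib.BoundedAlt

variable {F : Type*} [Field F] [Fintype F]

theorem exists_center (n : ℕ) (hn : 1 ≤ n) : ∃ z : Matrix.symplecticGroup (Fin n) F,
    Subgroup.normalClosure {z} = Subgroup.center (Matrix.symplecticGroup (Fin n) F) := by
  let z : Matrix.symplecticGroup (Fin n) F := ⟨-1, SymplecticGroup.neg_mem (one_mem _)⟩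
  have hz : z.1 = (-1 : F) • 1 := by simp [z]
  refine ⟨z, le_antisymm (Subgroup.normalClosure_le_normal ?_) fun A hA => ?_⟩
  · rintro _ rfl
    exact CfsgLib.Forms4.mem_center_of_scalar hz
  · obtain ⟨r, hr⟩ := CfsgLib.Forms4.mem_center_iff.1 hA
    rcases sq_eq_one_iff.1 (CfsgLib.Forms4.sq_eq_one_of_scalar hn hr) with h | h
    · have : A = 1 := Subtype.ext (by rw [hr, h, one_smul]; rfl)
      rw [this]; exact one_mem _
    · have : A = z := Subtype.ext (by rw [hr, h, hz])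
      rw [this]; exact Subgroup.subset_normalClosure rfl

theorem psp_of_sp {n g N : ℕ} (hn : 1 ≤ n) (rels : Finset (FreeGroup (Fin g))) (hc : rels.card ≤ N)
    (e : PresentedGroup (↑rels : Set (FreeGroup (Fin g))) ≃* Matrix.symplecticGroup (Fin n) F) :
    ∃ rels' : Finset (FreeGroup (Fin g)), rels'.card ≤ N + 1 ∧
      Nonempty (PresentedGroup (↑rels' : Set (FreeGroup (Fin g))) ≃* Cfsg.PSp n F) := by
  obtain ⟨z, hz⟩ := exists_center (F := F) n hn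
  obtain ⟨w, hw⟩ := PresentedGroup.mk_surjective _ (e.symm z)
  exact CfsgLib.PresLib.presentation_quotient rels N hc e _ w (by rw [hw, MulEquiv.apply_symm_apply, hz])

/-- `Sp₂ₙ` on few generators. -/
theorem presentation_small (p : ℕ) [Fact p.Prime] [Algebra (ZMod p) F] :
    ∃ rels : Finset (FreeGroup (Fin 7)), rels.card ≤ 43 ∧
      Nonempty (PresentedGroup (↑rels : Set (FreeGroup (Fin 7))) ≃* Matrix.symplecticGroup (Fin 3) F) := by
  obtain ⟨R, hR, ⟨e⟩⟩ := CfsgLib.SL3Pres.exists_presentation (F := F) p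
  exact exists_presentation (k := 0) p R hR e

/-- `Sp₂ₙ`, `n ≥ 4`. -/
theorem presentation_large (p : ℕ) [Fact p.Prime] [Algebra (ZMod p) F] {n : ℕ} (hn : 4 ≤ n) :
    ∃ (g N : ℕ) (rels : Finset (FreeGroup (Fin g))), ((n ≤ 5 ∧ g = 8 ∧ N = 50) ∨ ((g = 8 ∨ g = 9) ∧ N = 53)) ∧
      rels.card ≤ N ∧
      Nonempty (PresentedGroup (↑rels : Set (FreeGroup (Fin g))) ≃* Matrix.symplecticGroup (Fin n) F) := by
  obtain ⟨r, hr, rfl⟩ : ∃ r, 1 ≤ r ∧ n = r + 3 := ⟨n - 3, by omega, by omega⟩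
  obtain ⟨m, N, relsS, hcase, hc, he⟩ := exists_SL_parts (F := F) p hr
  rw [Nat.add_comm 3 r] at he
  obtain ⟨eS⟩ := he
  obtain ⟨R, hR, hi⟩ := exists_presentation (k := r) p relsS hc eS
  rcases hcase with ⟨-, rfl, ⟨rfl, rfl⟩ | ⟨rfl, rfl⟩ | ⟨rfl, rfl⟩⟩ | ⟨-, rfl, rfl⟩
  · exact ⟨8, 50, R, Or.inl ⟨by omega, rfl, rfl⟩, by omega, hi⟩
  · exact ⟨8, 50, R, Or.inl ⟨by omega, rfl, rfl⟩, by omega, hi⟩
  · exact ⟨8, 53, R, Or.inr ⟨Or.inl rfl, rfl⟩, by omega, hi⟩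
  · exact ⟨9, 53, R, Or.inr ⟨Or.inr rfl, rfl⟩, by omega, hi⟩

end CfsgLib.SpnPres
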