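import Cfsg.Agent.SpnPres.Concrete

/-!
# Monomial matrices in `SL` and their action in symplectic groups
-/

set_option autoImplicit false

namespace CfsgLib.SpnPres

open Matrix CfsgLib.SL2Pres CfsgLib.SLnPres

variable {ι F : Type*} [Fintype ι] [DecidableEq ι] [Field F]

/-- `g e_b = c b · e_{π b}`. -/
structure IsMon (g : Matrix.SpecialLinearGroup ι F) (π : Equiv.Perm ι) (c : ι → F) : Prop where
  ne : ∀ b, c b ≠ 0
  eq : ∀ a b, g.1 a b = if π b = a then c b else 0

theorem IsMon.one : IsMon (1 : Matrix.SpecialLinearGroup ι F) 1 1 :=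
  ⟨fun _ => one_ne_zero, fun a b => by simp [Matrix.one_apply, eq_comm]⟩

theorem IsMon.mul {g g' : Matrix.SpecialLinearGroup ι F} {π π' : Equiv.Perm ι} {c c' : ι → F}
    (h : IsMon g π c) (h' : IsMon g' π' c') : IsMon (g * g') (π * π') (fun b => c (π' b) * c' b) :=
  ⟨fun b => mul_ne_zero (h.ne _) (h'.ne _), fun a b => by
    rw [Matrix.SpecialLinearGroup.coe_mul, Matrix.mul_apply, Finset.sum_eq_single (π' b)]
    · rw [h.eq, h'.eq, if_pos rfl, Equiv.Perm.mul_apply, ite_mul, zero_mul]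
    · intro m _ hm; rw [h'.eq m b, if_neg (Ne.symm hm), mul_zero]
    · simp⟩

theorem IsMon.inv {g : Matrix.SpecialLinearGroup ι F} {π : Equiv.Perm ι} {c : ι → F} (h : IsMon g π c) :
    IsMon g⁻¹ π⁻¹ (fun b => (c (π⁻¹ b))⁻¹) := by
  refine ⟨fun b => inv_ne_zero (h.ne _), fun a b => ?_⟩
  set M : Matrix ι ι F := Matrix.of fun a b => if π⁻¹ b = a then (c (π⁻¹ b))⁻¹ else 0
  have hM : M * g.1 = 1 := by
    ext a b
    rw [Matrix.mul_apply, Finset.sum_eq_single (π b)]
    · simp [M, h.eq, h.ne, Matrix.one_apply, eq_comm]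
    · intro m _ hm; rw [h.eq m b, if_neg (Ne.symm hm), mul_zero]
    · simp
  have hg : g.1 * (g⁻¹).1 = 1 := by rw [← Matrix.SpecialLinearGroup.coe_mul, mul_inv_cancel]; rfl
  have : (g⁻¹).1 = M := by rw [← Matrix.one_mul (g⁻¹).1, ← hM, Matrix.mul_assoc, hg, Matrix.mul_one]
  rw [this]; rfl

theorem IsMon.inv_transpose {g : Matrix.SpecialLinearGroup ι F} {π : Equiv.Perm ι} {c : ι → F}
    (h : IsMon g π c) (a b : ι) : (g⁻¹).1ᵀ a b = if π b = a then (c b)⁻¹ else 0 := by
  rw [Matrix.transpose_apply, h.inv.eq b a]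
  by_cases hab : π b = a
  · subst hab; simp
  · rw [if_neg hab, if_neg]; intro e; exact hab (by simp [← e])

theorem IsMon.mul_tv {g : Matrix.SpecialLinearGroup ι F} {π : Equiv.Perm ι} {c : ι → F} (h : IsMon g π c)
    {i j : ι} (hij : i ≠ j) (t : F) : g * tv i j t * g⁻¹ = tv (π i) (π j) (c i * t * (c j)⁻¹) := by
  rw [mul_inv_eq_iff_eq_mul]
  apply Subtype.ext
  rw [Matrix.SpecialLinearGroup.coe_mul, Matrix.SpecialLinearGroup.coe_mul, coe_tv hij, coe_tv (π.injective.ne hij)]
  simp only [Matrix.transvection, mul_add, add_mul, mul_one, one_mul]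
  congr 1
  ext a b
  by_cases hb : b = j
  · subst hb
    rw [Matrix.mul_single_apply_same]
    by_cases ha : a = π i
    · subst ha
      rw [Matrix.single_mul_apply_same, h.eq, h.eq, if_pos rfl, if_pos rfl, inv_mul_cancel_right₀ (h.ne b)]
    · rw [Matrix.single_mul_apply_of_ne _ _ _ _ _ ha, h.eq, if_neg (Ne.symm ha), zero_mul]
  · rw [Matrix.mul_single_apply_of_ne _ _ _ _ _ hb]
    by_cases ha : a = π i
    · subst ha
      rw [Matrix.single_mul_apply_same, h.eq, if_neg (π.injective.ne hb), mul_zero]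
    · rw [Matrix.single_mul_apply_of_ne _ _ _ _ _ ha]

/-- A monomial matrix with sign correction at `z`. -/
def monOf (π : Equiv.Perm ι) (z : ι) : Matrix.SpecialLinearGroup ι F :=
  ⟨(π⁻¹).permMatrix F * Matrix.diagonal (dOne z ((Equiv.Perm.sign π : ℤ) : F)), by
    rw [Matrix.det_mul, Matrix.det_permutation, Matrix.det_diagonal, map_inv, Int.units_inv_eq_self]
    simp only [dOne, Finset.prod_update_of_mem (Finset.mem_univ _), Pi.one_apply, Finset.prod_const_one, mul_one]
    rcases Int.units_eq_one_or (Equiv.Perm.sign π) with h | h <;> simp [h]⟩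

theorem isMon_monOf (π : Equiv.Perm ι) (z : ι) :
    IsMon (monOf (F := F) π z) π (dOne z ((Equiv.Perm.sign π : ℤ) : F)) :=
  ⟨fun b => by
    rw [dOne_apply]; split_ifs
    · rcases Int.units_eq_one_or (Equiv.Perm.sign π) with h | h <;> simp [h]
    · exact one_ne_zero,
  fun a b => by
    show ((π⁻¹).permMatrix F * Matrix.diagonal (dOne z ((Equiv.Perm.sign π : ℤ) : F))) a b = _
    rw [Matrix.mul_diagonal]
    simp only [Equiv.Perm.permMatrix, PEquiv.toMatrix_apply, Equiv.toPEquiv_apply, Option.mem_def,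
      Option.some.injEq, Equiv.Perm.inv_def, Equiv.symm_apply_eq, ite_mul, one_mul, zero_mul]
    exact if_congr eq_comm rfl rfl⟩

/-- Conjugation by `diag(c, c⁻¹)`. -/
noncomputable def conjD (c : F) (g : Matrix.SpecialLinearGroup (Fin 2) F) : Matrix.SpecialLinearGroup (Fin 2) F :=
  open Classical in if h : c = 0 then g else hD (Units.mk0 c h) * g * (hD (Units.mk0 c h))⁻¹

theorem conjD_apply {c : F} (hc : c ≠ 0) (g : Matrix.SpecialLinearGroup (Fin 2) F) :
    (conjD c g).1 = !![g.1 0 0, c * g.1 0 1 * c; c⁻¹ * g.1 1 0 * c⁻¹, g.1 1 1] := by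
  rw [conjD, dif_neg hc, hD_inv, Matrix.SpecialLinearGroup.coe_mul, Matrix.SpecialLinearGroup.coe_mul, coe_hD, coe_hD]
  ext i j
  fin_cases i <;> fin_cases j <;>
    simp [Matrix.vecMul, dotProduct, Matrix.mul_apply, Fin.sum_univ_two, mul_assoc] <;> field_simp

theorem conjD_one (g : Matrix.SpecialLinearGroup (Fin 2) F) : conjD 1 g = g := by
  apply Subtype.ext
  rw [conjD_apply one_ne_zero]
  ext i j; fin_cases i <;> fin_cases j <;> simp

theorem conjD_neg_one (g : Matrix.SpecialLinearGroup (Fin 2) F) : conjD (-1) g = g := by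
  apply Subtype.ext
  rw [conjD_apply (neg_ne_zero.2 one_ne_zero)]
  ext i j; fin_cases i <;> fin_cases j <;> simp [inv_neg]

theorem conjD_conjD {c d : F} (hc : c ≠ 0) (hd : d ≠ 0) (g : Matrix.SpecialLinearGroup (Fin 2) F) :
    conjD c (conjD d g) = conjD (c * d) g := by
  apply Subtype.ext
  rw [conjD_apply hc, conjD_apply hd, conjD_apply (mul_ne_zero hc hd)]
  ext i j; fin_cases i <;> fin_cases j <;> simp <;> ring

theorem conjD_xU {c : F} (hc : c ≠ 0) (t : F) : conjD c (xU t) = xU (c * t * c) := by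
  apply Subtype.ext
  rw [conjD_apply hc, coe_xU, coe_xU]
  ext i j; fin_cases i <;> fin_cases j <;> simp

theorem conjD_wW {c : F} (hc : c ≠ 0) : conjD c (wW (F := F)) = wW * hD (Units.mk0 c hc * Units.mk0 c hc)⁻¹ := by
  apply Subtype.ext
  rw [conjD_apply hc, Matrix.SpecialLinearGroup.coe_mul, coe_hD, coe_wW]
  ext i j
  fin_cases i <;> fin_cases j <;> simp [Matrix.mul_apply, Fin.sum_univ_two, mul_comm]

theorem levi_embLong {g : Matrix.SpecialLinearGroup ι F} {π : Equiv.Perm ι} {c : ι → F} (h : IsMon g π c) (i : ι)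
    (u : Matrix.SpecialLinearGroup (Fin 2) F) :
    levi g * embLong i u * (levi g)⁻¹ = embLong (π i) (conjD (c i) u) := by
  rw [mul_inv_eq_iff_eq_mul]
  apply Subtype.ext
  rw [Submonoid.coe_mul, Submonoid.coe_mul, coe_levi, coe_embLong, coe_embLong, fromBlocks_multiply, fromBlocks_multiply]
  simp only [Matrix.mul_zero, Matrix.zero_mul, add_zero, zero_add]
  rw [fromBlocks_inj]
  refine ⟨?_, ?_, ?_, ?_⟩ <;> ext a b <;> simp only [Matrix.mul_diagonal, Matrix.diagonal_mul, h.inv_transpose, h.eq,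
      conjD_apply (h.ne i)] <;>
    (by_cases hab : π b = a
     · subst hab
       by_cases hb : b = i
       · subst hb
         have hc := h.ne b
         simp [dOne_apply] <;> field_simp
       · simp [dOne_apply, hb]
     · simp [hab])

theorem levi_up {g : Matrix.SpecialLinearGroup ι F} (S : Matrix ι ι F) (h : Sᵀ = S) :
    levi g * up S h * (levi g)⁻¹ = up (g.1 * S * g.1ᵀ) (by simp [Matrix.transpose_mul, h, Matrix.mul_assoc]) := by
  rw [mul_inv_eq_iff_eq_mul]
  apply Subtype.ext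
  have e : g.1ᵀ * (g⁻¹).1ᵀ = 1 := by
    rw [← Matrix.transpose_mul, ← Matrix.SpecialLinearGroup.coe_mul, inv_mul_cancel]; simp
  rw [Submonoid.coe_mul, Submonoid.coe_mul, coe_levi]
  simp only [up, fromBlocks_multiply, Matrix.mul_zero, Matrix.zero_mul, add_zero, zero_add, Matrix.mul_one,
    Matrix.one_mul, Matrix.mul_assoc, e]

theorem IsMon.mul_single_mul {g : Matrix.SpecialLinearGroup ι F} {π : Equiv.Perm ι} {c : ι → F} (h : IsMon g π c)
    (i j : ι) (t : F) : g.1 * Matrix.single i j t * g.1ᵀ = Matrix.single (π i) (π j) (c i * t * c j) := by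
  ext a b
  rw [Matrix.mul_apply, Finset.sum_eq_single j]
  · rw [Matrix.mul_single_apply_same, Matrix.transpose_apply, h.eq, h.eq, Matrix.single_apply]
    by_cases ha : π i = a <;> by_cases hb : π j = b <;> simp [ha, hb]
  · intro m _ hm; rw [Matrix.mul_single_apply_of_ne _ _ _ _ _ hm, zero_mul]
  · simp

end CfsgLib.SpnPres
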