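import Cfsg.Agent.SpnPres.Facts

/-!
# The symplectic amalgam: long root groups and two-index frames
-/

set_option autoImplicit false

namespace CfsgLib.SpnPres

open Matrix CfsgLib.SL2Pres CfsgLib.SLnPres CfsgLib.Sp4Pres

/-- The data: a Levi `SL`, an `Sp₄` on the first two coordinates, glued along `SL₂`. -/
structure Amalgam (G F : Type*) [Group G] [Field F] (k : ℕ) where
  ρ : Matrix.SpecialLinearGroup (Fin (k + 3)) F →* G
  σ : Matrix.symplecticGroup (Fin 2) F →* G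
  φ : G →* Matrix.symplecticGroup (Fin (k + 3)) F
  glue : ∀ g, σ (embA g) = ρ (blk g)
  comm : ∀ A : Matrix.SpecialLinearGroup (Fin (k + 3)) F, A.1 0 0 = 1 →
    (∀ a, a ≠ 0 → A.1 a 0 = 0 ∧ A.1 0 a = 0) → ∀ g, Commute (ρ A) (σ (embLong 0 g))
  hφρ : ∀ A, φ (ρ A) = levi A
  hφσ : ∀ g, φ (σ g) = embTwo g
  hgen : ρ.range ⊔ σ.range = ⊤

namespace Amalgam

variable {G F : Type*} [Group G] [Field F] {k : ℕ} (A : Amalgam G F k)

theorem zero_ne_one : (0 : Fin (k + 3)) ≠ 1 := by simp [Fin.ext_iff]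

theorem two_ne : (2 : Fin (k + 3)) ≠ 0 ∧ (2 : Fin (k + 3)) ≠ 1 := by
  have h : (2 : Fin (k + 3)).val = 2 := by simp [Fin.val_two]
  constructor <;> intro e <;> have := congrArg Fin.val e <;> rw [h] at this <;> simp at this

/-- Matrices fixing the first coordinate up to a scalar act on its long root group through it. -/
theorem stab_conj (M : Matrix.SpecialLinearGroup (Fin (k + 3)) F) (c : F) (hc : c ≠ 0) (h00 : M.1 0 0 = c)
    (h : ∀ a, a ≠ 0 → M.1 a 0 = 0 ∧ M.1 0 a = 0) (g : Matrix.SpecialLinearGroup (Fin 2) F) :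
    A.ρ M * A.σ (embLong 0 g) * (A.ρ M)⁻¹ = A.σ (embLong 0 (conjD c g)) := by
  set u := Units.mk0 c hc
  set D : Matrix.SpecialLinearGroup (Fin (k + 3)) F := blk (hD u) with hDdef
  have hD' := (isMon_blk_hD (k := k) u).inv
  set M' := D⁻¹ * M with hM'
  have hM : M = D * M' := by rw [hM', mul_inv_cancel_left]
  have hrow : ∀ a b, M'.1 a b = (if a.val = 0 then (c : F)⁻¹ else if a.val = 1 then c else 1) * M.1 a b := by
    intro a b
    rw [hM', Matrix.SpecialLinearGroup.coe_mul, Matrix.mul_apply, Finset.sum_eq_single a]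
    · rw [hD'.eq, inv_one, Equiv.Perm.one_apply, if_pos rfl]
      congr 1
      simp only [u, Units.val_mk0, Units.val_inv_eq_inv_val, inv_one, Equiv.Perm.one_apply]
      split_ifs <;> simp
    · intro m _ hm; rw [hD'.eq a m, inv_one, Equiv.Perm.one_apply, if_neg hm, zero_mul]
    · simp
  have hcomm := A.comm M' (by rw [hrow, h00]; simp [hc]) (fun a ha => by
    rw [hrow, hrow, (h a ha).1, (h a ha).2, mul_zero, mul_zero]; exact ⟨rfl, rfl⟩) g
  rw [hM, map_mul, _root_.mul_inv_rev]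
  calc A.ρ D * A.ρ M' * A.σ (embLong 0 g) * ((A.ρ M')⁻¹ * (A.ρ D)⁻¹)
      = A.ρ D * (A.ρ M' * A.σ (embLong 0 g) * (A.ρ M')⁻¹) * (A.ρ D)⁻¹ := by group
    _ = A.ρ D * A.σ (embLong 0 g) * (A.ρ D)⁻¹ := by rw [hcomm.eq, mul_inv_cancel_right]
    _ = _ := by
      rw [hDdef, ← A.glue, ← map_inv, ← map_mul, ← map_mul, embA_eq_levi,
        levi_embLong (g := hD u) (π := 1) (c := fun b => if b = 0 then (u : F) else ((u⁻¹ : Fˣ) : F)) ?_]
      · simp [u]
      · refine ⟨fun b => by split_ifs <;> simp, fun a b => ?_⟩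
        fin_cases a <;> fin_cases b <;> simp [coe_hD]

/-- Monomial matrices moving `0` to `i`. -/
def mv (i : Fin (k + 3)) : Matrix.SpecialLinearGroup (Fin (k + 3)) F := monOf (Equiv.swap 0 i) 2

/-- A permutation moving `(0, 1)` to `(i, j)`. -/
def perm2 (i j : Fin (k + 3)) : Equiv.Perm (Fin (k + 3)) :=
  Equiv.swap (Equiv.swap 0 i 1) j * Equiv.swap 0 i

theorem perm2_zero {i j : Fin (k + 3)} (h : i ≠ j) : perm2 i j 0 = i := by
  rw [perm2, Equiv.Perm.mul_apply, Equiv.swap_apply_left]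
  refine Equiv.swap_apply_of_ne_of_ne ?_ h
  intro e
  exact zero_ne_one ((Equiv.swap 0 i).injective ((Equiv.swap_apply_left _ _).trans e))

theorem perm2_one (i j : Fin (k + 3)) : perm2 i j 1 = j := by
  rw [perm2, Equiv.Perm.mul_apply, Equiv.swap_apply_left]

/-- Monomial matrices moving `(0, 1)` to `(i, j)`. -/
def mv2 (i j : Fin (k + 3)) : Matrix.SpecialLinearGroup (Fin (k + 3)) F := monOf (perm2 i j) 2

/-- The `SL₂` of the long root at `i`. -/
def L (i : Fin (k + 3)) : Matrix.SpecialLinearGroup (Fin 2) F →* G :=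
  (MulAut.conj (A.ρ (mv i))).toMonoidHom.comp (A.σ.comp (embLong 0))

theorem L_apply (i : Fin (k + 3)) (g : Matrix.SpecialLinearGroup (Fin 2) F) :
    A.L i g = A.ρ (mv i) * A.σ (embLong 0 g) * (A.ρ (mv i))⁻¹ := rfl

theorem dOne_two {z b : Fin (k + 3)} (a : F) (h : b ≠ z) : dOne z a b = 1 := by rw [dOne_apply, if_neg h]

theorem L_eq {m : Matrix.SpecialLinearGroup (Fin (k + 3)) F} {π : Equiv.Perm (Fin (k + 3))} {c : Fin (k + 3) → F}
    (h : IsMon m π c) (g : Matrix.SpecialLinearGroup (Fin 2) F) :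
    A.ρ m * A.σ (embLong 0 g) * (A.ρ m)⁻¹ = A.L (π 0) (conjD (c 0) g) := by
  set i := π 0 with hi
  set M := (mv i : Matrix.SpecialLinearGroup (Fin (k + 3)) F)⁻¹ * m with hM
  have hmon := ((isMon_monOf (F := F) (Equiv.swap 0 i) 2).inv.mul h)
  have h0 : ((Equiv.swap 0 i)⁻¹ * π) 0 = 0 := by simp [← hi]
  have hc0 : ((dOne (2 : Fin (k + 3)) ((Equiv.Perm.sign (Equiv.swap 0 i) : ℤ) : F)) ((Equiv.swap 0 i)⁻¹ (π 0)))⁻¹ * c 0 = c 0 := by
    rw [show (Equiv.swap 0 i)⁻¹ (π 0) = 0 by simp [← hi], dOne_two _ two_ne.1.symm, inv_one, one_mul]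
  have e := A.stab_conj M (c 0) (h.ne 0) (by rw [hM, mv, hmon.eq, if_pos h0]; exact hc0) (fun a ha => by
    rw [hM, mv, hmon.eq, hmon.eq, if_neg (by rw [h0]; exact ha.symm), if_neg]
    · exact ⟨rfl, rfl⟩
    · intro e; exact ha (((Equiv.swap 0 i)⁻¹ * π).injective (e.trans h0.symm))) g
  rw [L_apply, ← e, hM, map_mul, map_inv]
  group

theorem L_zero (g : Matrix.SpecialLinearGroup (Fin 2) F) : A.L 0 g = A.σ (embLong 0 g) := by
  have := A.L_eq (IsMon.one (ι := Fin (k + 3)) (F := F)) g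
  simpa [conjD_one] using this.symm

theorem mon_L {m : Matrix.SpecialLinearGroup (Fin (k + 3)) F} {π : Equiv.Perm (Fin (k + 3))} {c : Fin (k + 3) → F}
    (h : IsMon m π c) (i : Fin (k + 3)) (g : Matrix.SpecialLinearGroup (Fin 2) F) :
    A.ρ m * A.L i g * (A.ρ m)⁻¹ = A.L (π i) (conjD (c i) g) := by
  have := A.L_eq (h.mul (isMon_monOf (F := F) (Equiv.swap 0 i) 2)) g
  rw [Equiv.Perm.mul_apply, Equiv.swap_apply_left, dOne_two _ two_ne.1.symm, mul_one] at this
  rw [← this, L_apply, map_mul, mv]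
  group

theorem φ_L (i : Fin (k + 3)) (g : Matrix.SpecialLinearGroup (Fin 2) F) : A.φ (A.L i g) = embLong i g := by
  rw [L_apply, map_mul, map_mul, map_inv, A.hφρ, A.hφσ, embTwo_long, mv, levi_embLong (isMon_monOf _ _),
    Equiv.swap_apply_left, dOne_two _ two_ne.1.symm, conjD_one]

theorem σ_long1 (g : Matrix.SpecialLinearGroup (Fin 2) F) : A.σ (embLong 1 g) = A.L 1 g := by
  have hw : IsMon (wW : Matrix.SpecialLinearGroup (Fin 2) F) (Equiv.swap 0 1) (fun b => if b = 0 then -1 else 1) := by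
    refine ⟨fun b => by split_ifs <;> simp, fun a b => ?_⟩
    fin_cases a <;> fin_cases b <;> simp [coe_wW]
  have e := levi_embLong hw 0 g
  rw [Equiv.swap_apply_left, if_pos rfl, conjD_neg_one] at e
  rw [← e, ← embA_eq_levi, map_mul, map_mul, map_inv, A.glue, A.L_eq isMon_blk_wW, Equiv.swap_apply_left]
  simp [conjD_neg_one]

/-- The copy of `Sp₄` on `(i, j)`. -/
def ν (i j : Fin (k + 3)) : Matrix.symplecticGroup (Fin 2) F →* G :=
  (MulAut.conj (A.ρ (mv2 i j))).toMonoidHom.comp A.σ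

theorem ν_apply (i j : Fin (k + 3)) (g : Matrix.symplecticGroup (Fin 2) F) :
    A.ν i j g = A.ρ (mv2 i j) * A.σ g * (A.ρ (mv2 i j))⁻¹ := rfl

variable {i j : Fin (k + 3)}

theorem ν_xU (h : i ≠ j) (t : F) : A.ν i j (embA (xU t)) = A.ρ (tv i j t) := by
  rw [ν_apply, A.glue, blk_xU, ← map_inv, ← map_mul, ← map_mul, mv2, (isMon_monOf _ _).mul_tv zero_ne_one,
    perm2_zero h, perm2_one, dOne_two _ two_ne.1.symm, dOne_two _ two_ne.2.symm]
  simp

theorem ν_xD (h : i ≠ j) (t : F) : A.ν i j (embA (xD t)) = A.ρ (tv j i t) := by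
  rw [ν_apply, A.glue, blk_xD, ← map_inv, ← map_mul, ← map_mul, mv2, (isMon_monOf _ _).mul_tv zero_ne_one.symm,
    perm2_zero h, perm2_one, dOne_two _ two_ne.1.symm, dOne_two _ two_ne.2.symm]
  simp

theorem ν_long0 (h : i ≠ j) (g : Matrix.SpecialLinearGroup (Fin 2) F) : A.ν i j (embLong 0 g) = A.L i g := by
  rw [ν_apply, ← A.L_zero, mv2, A.mon_L (isMon_monOf _ _), perm2_zero h, dOne_two _ two_ne.1.symm, conjD_one]

theorem ν_long1 (g : Matrix.SpecialLinearGroup (Fin 2) F) : A.ν i j (embLong 1 g) = A.L j g := by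
  rw [ν_apply, A.σ_long1, mv2, A.mon_L (isMon_monOf _ _), perm2_one, dOne_two _ two_ne.2.symm, conjD_one]

theorem L_comm (h : i ≠ j) (g g' : Matrix.SpecialLinearGroup (Fin 2) F) : Commute (A.L i g) (A.L j g') := by
  have := (embLong_commute (F := F) (show (0 : Fin 2) ≠ 1 by decide) g g').map (A.ν i j)
  rwa [A.ν_long0 h, A.ν_long1] at this

theorem L_comm_tv {a b : Fin (k + 3)} (hab : a ≠ b) (hia : i ≠ a) (hib : i ≠ b)
    (g : Matrix.SpecialLinearGroup (Fin 2) F) (t : F) : Commute (A.L i g) (A.ρ (tv a b t)) := by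
  set m := (mv i : Matrix.SpecialLinearGroup (Fin (k + 3)) F)
  have hm := (isMon_monOf (F := F) (Equiv.swap 0 i) 2).inv
  obtain ⟨s, e⟩ : ∃ s, m⁻¹ * tv a b t * m = tv ((Equiv.swap 0 i)⁻¹ a) ((Equiv.swap 0 i)⁻¹ b) s := by
    refine ⟨_, Eq.trans ?_ (hm.mul_tv hab t)⟩
    rw [inv_inv]; rfl
  have n : ∀ x, i ≠ x → (Equiv.swap (0 : Fin (k + 3)) i)⁻¹ x ≠ 0 := fun x hx e => hx (by
    rw [Equiv.Perm.inv_eq_iff_eq, Equiv.swap_apply_left] at e; exact e.symm)
  set a' := (Equiv.swap (0 : Fin (k + 3)) i)⁻¹ a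
  set b' := (Equiv.swap (0 : Fin (k + 3)) i)⁻¹ b
  have hab' : a' ≠ b' := (Equiv.injective _).ne hab
  have hc := A.comm (m⁻¹ * tv a b t * m) (by
    rw [e, coe_tv hab', Matrix.transvection]; simp [show a' ≠ 0 from n a hia, Matrix.single_apply]) (fun x hx => by
    rw [e, coe_tv hab', Matrix.transvection]
    simp [hx, hx.symm, show a' ≠ 0 from n a hia, show b' ≠ 0 from n b hib, Matrix.single_apply]) g
  have := hc.map (MulAut.conj (A.ρ m)).toMonoidHom
  simp only [MulEquiv.coe_toMonoidHom, MulAut.conj_apply, map_mul, map_inv] at this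
  rw [L_apply]
  refine Commute.symm ?_
  convert this using 1
  group

end Amalgam

end CfsgLib.SpnPres
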