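import Cfsg.Agent.SpnPres.Relations

/-!
# Borel subgroup, simple roots and the rank one steps
-/

set_option autoImplicit false

namespace CfsgLib.SpnPres

open Matrix CfsgLib.SL2Pres CfsgLib.SLnPres CfsgLib.Sp4Pres CfsgLib.SteinbergSLn

variable {G F : Type*} [Group G] [Field F] {k : ℕ}

/-- Positive roots: `e_i − e_j` (`i < j`), and `e_i + e_j`. -/
abbrev PR (k : ℕ) := {p : Fin (k + 3) × Fin (k + 3) // p.1 < p.2} ⊕ (Fin (k + 3) × Fin (k + 3))

/-- The two signed indices of a positive root. -/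
def prSI : PR k → SI k × SI k
  | Sum.inl p => ((p.1.1, false), (p.1.2, true))
  | Sum.inr p => ((p.1, false), (p.2, false))

/-- Simple roots: the adjacent ones and the last long one. -/
abbrev SR (k : ℕ) := Fin (k + 2) ⊕ Unit

/-- A simple root as a positive root. -/
def srPR : SR k → PR k
  | Sum.inl a => Sum.inl ⟨(a.castSucc, a.succ), Fin.castSucc_lt_succ⟩
  | Sum.inr _ => Sum.inr (Fin.last _, Fin.last _)

/-- The permutation of signed indices of a simple reflection. -/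
def srPerm : SR k → Equiv.Perm (SI k)
  | Sum.inl a => (Equiv.swap a.castSucc a.succ).prodCongr (Equiv.refl Bool)
  | Sum.inr _ => Amalgam.tog (Fin.last _)

theorem castSucc_ne_succ (a : Fin (k + 2)) : a.castSucc ≠ a.succ := Fin.castSucc_lt_succ.ne

/-- Other positive roots stay positive. -/
theorem srPerm_pos (r : SR k) {p : PR k}
    (h : ((prSI p).1, (prSI p).2) ≠ ((prSI (srPR r)).1, (prSI (srPR r)).2)) :
    ∃ p' : PR k, (srPerm r (prSI p).1, srPerm r (prSI p).2) = ((prSI p').1, (prSI p').2) ∨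
      (srPerm r (prSI p).1, srPerm r (prSI p).2) = ((prSI p').2, (prSI p').1) := by
  rcases r with a | u
  · rcases p with ⟨⟨i, j⟩, hij⟩ | ⟨i, j⟩
    · refine ⟨Sum.inl ⟨(Equiv.swap a.castSucc a.succ i, Equiv.swap a.castSucc a.succ j), ?_⟩, Or.inl rfl⟩
      have hne : ¬ (i = a.castSucc ∧ j = a.succ) := fun ⟨e1, e2⟩ => h (by simp [prSI, srPR, e1, e2])
      have hij' : i.val < j.val := hij
      have hne' : ¬ (i.val = a.val ∧ j.val = a.val + 1) := fun ⟨e1, e2⟩ =>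
        hne ⟨Fin.ext (by simpa using e1), Fin.ext (by simpa using e2)⟩
      rw [Fin.lt_def]
      simp only [Equiv.swap_apply_def]
      split_ifs with g1 g2 g3 g4 <;> simp_all [Fin.ext_iff] <;> omega
    · exact ⟨Sum.inr (Equiv.swap a.castSucc a.succ i, Equiv.swap a.castSucc a.succ j), Or.inl rfl⟩
  · rcases p with ⟨⟨i, j⟩, hij⟩ | ⟨i, j⟩
    · have hi : i ≠ Fin.last _ := (lt_of_lt_of_le hij (Fin.le_last _)).ne
      by_cases hj : j = Fin.last _
      · exact ⟨Sum.inr (i, j), Or.inl (by simp [prSI, srPerm, Amalgam.tog_apply, hi, hj, bar])⟩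
      · exact ⟨Sum.inl ⟨(i, j), hij⟩, Or.inl (by simp [prSI, srPerm, Amalgam.tog_apply, hi, hj])⟩
    · by_cases hi : i = Fin.last _
      · have hj : j ≠ Fin.last _ := fun e => h (by simp [prSI, srPR, hi, e])
        exact ⟨Sum.inl ⟨(j, i), by rw [hi]; exact lt_of_le_of_ne (Fin.le_last _) hj⟩,
          Or.inr (by simp [prSI, srPerm, Amalgam.tog_apply, hi, hj, bar])⟩
      · by_cases hj : j = Fin.last _
        · exact ⟨Sum.inl ⟨(i, j), by rw [hj]; exact lt_of_le_of_ne (Fin.le_last _) hi⟩,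
            Or.inl (by simp [prSI, srPerm, Amalgam.tog_apply, hi, hj, bar])⟩
        · exact ⟨Sum.inr (i, j), Or.inl (by simp [prSI, srPerm, Amalgam.tog_apply, hi, hj])⟩

theorem srPerm_simple (r : SR k) :
    (srPerm r (prSI (srPR r)).1 = bar (prSI (srPR r)).1 ∧ srPerm r (prSI (srPR r)).2 = bar (prSI (srPR r)).2) ∨
    (srPerm r (prSI (srPR r)).1 = bar (prSI (srPR r)).2 ∧ srPerm r (prSI (srPR r)).2 = bar (prSI (srPR r)).1) := by
  rcases r with a | u
  · exact Or.inr (by simp [prSI, srPR, srPerm, bar])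
  · exact Or.inl (by simp [prSI, srPR, srPerm, bar, Amalgam.tog_apply])

namespace Amalgam

variable (A : Amalgam G F k)

/-- A positive root group. -/
def Xp (p : PR k) : Subgroup G := A.X (prSI p).1 (prSI p).2

/-- The positive root groups together. -/
def U : Subgroup G := ⨆ p, A.Xp p

/-- All positive root groups but one. -/
def U' (r : SR k) : Subgroup G :=
  ⨆ p : {p : PR k // ((prSI p).1, (prSI p).2) ≠ ((prSI (srPR r)).1, (prSI (srPR r)).2)}, A.Xp p.1

/-- The torus. -/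
def H : Subgroup G :=
  Subgroup.closure ({g | ∃ l c, g = A.hh l c} ∪ {g | ∃ m c, IsMon m (1 : Equiv.Perm (Fin (k + 3))) c ∧ g = A.ρ m})

/-- The Borel subgroup. -/
def B : Subgroup G := A.U ⊔ A.H

theorem act_H {g : G} (hg : g ∈ A.H) : A.Act g 1 := by
  induction hg using Subgroup.closure_induction with
  | mem x hx =>
    rcases hx with ⟨l, c, rfl⟩ | ⟨m, c, hm, rfl⟩
    · exact A.act_hh l c
    · have := A.act_mon hm
      rwa [show ((1 : Equiv.Perm (Fin (k + 3))).prodCongr (Equiv.refl Bool)) = 1 from rfl] at this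
  | one => exact Act.one A
  | mul x y _ _ hx hy => have := Act.mul A hx hy; rwa [one_mul] at this
  | inv x _ hx => have := Act.inv A hx; rwa [inv_one] at this

theorem H_fix {g : G} (hg : g ∈ A.H) (p : PR k) : cnj g (A.Xp p) = A.Xp p := (A.act_H hg).2 _ _

theorem H_le_normalizer_U : A.H ≤ Subgroup.normalizer (A.U : Set G) := fun g hg =>
  mem_normalizer_of_cnj (by rw [U, cnj_iSup]; exact iSup_congr (A.H_fix hg))

theorem Xp_le_U (p : PR k) : A.Xp p ≤ A.U := le_iSup A.Xp p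

theorem Nplus_le_U : A.Nplus ≤ A.U := iSup_le fun p => A.Xp_le_U (Sum.inr p)

theorem U_le_B : A.U ≤ A.B := le_sup_left

theorem H_le_B : A.H ≤ A.B := le_sup_right

theorem Xp_le_U' {r : SR k} {p : PR k} (h : ((prSI p).1, (prSI p).2) ≠ ((prSI (srPR r)).1, (prSI (srPR r)).2)) :
    A.Xp p ≤ A.U' r :=
  le_iSup (fun p : {p : PR k // ((prSI p).1, (prSI p).2) ≠ ((prSI (srPR r)).1, (prSI (srPR r)).2)} => A.Xp p.1) ⟨p, h⟩

theorem U_eq (r : SR k) : A.U = A.U' r ⊔ A.Xp (srPR r) := by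
  refine le_antisymm (iSup_le fun p => ?_) (sup_le (iSup_le fun p => A.Xp_le_U p.1) (A.Xp_le_U _))
  by_cases h : ((prSI p).1, (prSI p).2) = ((prSI (srPR r)).1, (prSI (srPR r)).2)
  · refine le_sup_of_le_right ?_
    simp only [Prod.mk.injEq] at h
    rw [Xp, Xp, h.1, h.2]
  · exact le_sup_of_le_left (A.Xp_le_U' h)

theorem tv_mem_XA {i j : Fin (k + 3)} (t : F) : A.ρ (tv i j t) ∈ A.XA i j := mem_rng _ t

theorem Xp_inl (p : {p : Fin (k + 3) × Fin (k + 3) // p.1 < p.2}) : A.Xp (Sum.inl p) = A.XA p.1.1 p.1.2 :=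
  A.X_ab p.2.ne

theorem Xp_inr_ne {i j : Fin (k + 3)} (h : i ≠ j) : A.Xp (Sum.inr (i, j)) = rng (A.bgen i j) := A.X_bb h

theorem Xp_inr_self (i : Fin (k + 3)) : A.Xp (Sum.inr (i, i)) = rng (fun t => A.L i (xU t)) := A.X_ll i

theorem Xp_le_normalizer_U' (r : SR k) : A.Xp (srPR r) ≤ Subgroup.normalizer (A.U' r : Set G) := by
  rcases r with a | u
  · have hne := castSucc_ne_succ a
    set i := a.castSucc with hi
    set j := a.succ with hj
    have hN : A.Nplus ≤ A.U' (Sum.inl a) := iSup_le fun p => A.Xp_le_U' (p := Sum.inr p) (by simp [prSI, srPR])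
    rw [srPR, A.Xp_inl]
    refine rng_le_normalizer (A.ρ_tv_neg hne) fun t => ?_
    rw [U', cnj_iSup]
    refine iSup_le fun ⟨p, hp⟩ => ?_
    rcases p with ⟨⟨x, y⟩, hxy⟩ | ⟨x, y⟩
    · have hxy' : x ≠ y := hxy.ne
      have hp' : ¬ (x = i ∧ y = j) := fun ⟨e1, e2⟩ => hp (by simp [prSI, srPR, e1, e2, hi, hj])
      show cnj _ (A.Xp (Sum.inl ⟨(x, y), hxy⟩)) ≤ A.U' (Sum.inl a)
      rw [A.Xp_inl]
      refine cnj_rng_le fun u => ?_
      rw [← map_inv, ← map_mul, ← map_mul]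
      have hm : ∀ {x' y' : Fin (k + 3)} (h' : x' < y') (_ : ¬ (x' = i ∧ y' = j)) (v : F),
          A.ρ (tv x' y' v) ∈ A.U' (Sum.inl a) := fun {x' y'} h' h'' v =>
        A.Xp_le_U' (p := Sum.inl ⟨(x', y'), h'⟩) (fun e => h'' (by simpa [prSI, srPR, ← hi, ← hj] using e))
          (by rw [A.Xp_inl]; exact A.tv_mem_XA v)
      have hlt : i < j := Fin.castSucc_lt_succ
      by_cases hyi : y = i
      · subst hyi
        have hxj : x < j := lt_trans hxy hlt
        rw [conj_snd (stRel (F := F) (k := k)) hxy' hne hxj.ne, map_mul]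
        exact mul_mem (hm hxj (fun e => hxy'.symm e.1.symm) _) (hm hxy (fun e => hne e.2) _)
      by_cases hxj : x = j
      · subst hxj
        have hiy : i < y := lt_trans hlt hxy
        rw [conj_fst (stRel (F := F) (k := k)) hne hxy' hiy.ne, map_mul]
        exact mul_mem (hm hiy (fun e => hxy'.symm e.2) _) (hm hxy (fun e => hne e.1.symm) _)
      rw [conj_comm (stRel (F := F) (k := k)) hne hxy' (Ne.symm hyi) (Ne.symm hxj)]
      exact hm hxy hp' u
    · show cnj _ (A.Xp (Sum.inr (x, y))) ≤ A.U' (Sum.inl a)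
      refine le_trans ?_ hN
      refine le_trans ?_ (A.cnj_tv_Nplus hne t)
      exact Subgroup.map_mono (A.le_Nplus x y)
  · set z := Fin.last (k + 2) with hz
    rw [srPR, A.Xp_inr_self]
    refine rng_le_normalizer (A.L_xU_neg z) fun t => ?_
    rw [U', cnj_iSup]
    refine iSup_le fun ⟨p, hp⟩ => ?_
    have hm : ∀ {p' : PR k} {g : G}, g ∈ A.Xp p' →
        ((prSI p').1, (prSI p').2) ≠ ((prSI (srPR (Sum.inr u))).1, (prSI (srPR (Sum.inr u))).2) →
        g ∈ A.U' (Sum.inr u) := fun h1 h2 => A.Xp_le_U' h2 h1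
    rcases p with ⟨⟨x, y⟩, hxy⟩ | ⟨x, y⟩
    · have hxz : x ≠ z := (lt_of_lt_of_le hxy (Fin.le_last _)).ne
      show cnj _ (A.Xp (Sum.inl ⟨(x, y), hxy⟩)) ≤ A.U' (Sum.inr u)
      have hA : ∀ v, A.ρ (tv x y v) ∈ A.U' (Sum.inr u) := fun v =>
        hm (p' := Sum.inl ⟨(x, y), hxy⟩) (by rw [A.Xp_inl]; exact A.tv_mem_XA v) (by simp [prSI, srPR])
      rw [A.Xp_inl]
      refine cnj_rng_le fun v => ?_
      show A.L z (xU t) * A.ρ (tv x y v) * (A.L z (xU t))⁻¹ ∈ _
      by_cases hyz : y = z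
      · rw [hyz] at hA ⊢
        have hsum : A.L x (xU (v * v * t)) * A.bgen x z (-(v * t)) ∈ A.U' (Sum.inr u) := by
          refine mul_mem (hm (p' := Sum.inr (x, x)) ?_ ?_) (hm (p' := Sum.inr (x, z)) ?_ ?_)
          · rw [A.Xp_inr_self]; exact mem_rng _ _
          · simp [prSI, srPR, ← hz, hxz]
          · rw [A.Xp_inr_ne hxz]; exact mem_rng _ _
          · simp [prSI, srPR, ← hz, hxz]
        have e : embB (xU t) * embA (xU v) * (embB (xU t))⁻¹ =
            (xC (v * v * t) * xAB (v * t))⁻¹ * (embA (xU v) : Matrix.symplecticGroup (Fin 2) F) := by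
          rw [eq_inv_mul_iff_mul_eq, ← mul_assoc, ← mul_assoc, ← xa_xb, mul_inv_cancel_right]
        have := congrArg (A.ν x z) e
        rw [map_mul, map_mul, map_inv, map_mul, map_inv, map_mul, A.ν_xU hxz, embB_eq_long, A.ν_long1,
          A.ν_xC hxz, A.ν_xAB hxz] at this
        rw [this]
        exact mul_mem (inv_mem hsum) (hA v)
      · rw [(A.L_comm_tv hxy.ne (Ne.symm hxz) (Ne.symm hyz) (xU t) v).eq, mul_inv_cancel_right]
        exact hA v
    · show cnj _ (A.Xp (Sum.inr (x, y))) ≤ A.U' (Sum.inr u)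
      rintro _ ⟨g, hg, rfl⟩
      have hc := A.Nplus_comm (A.L_mem z t) (A.le_Nplus x y hg)
      show A.L z (xU t) * g * (A.L z (xU t))⁻¹ ∈ _
      rw [hc.eq, mul_inv_cancel_right]
      exact hm hg hp

/-- The `SL₂` of a simple root. -/
def ℓ : SR k → Matrix.SpecialLinearGroup (Fin 2) F →* G
  | Sum.inl a => (A.ν a.castSucc a.succ).comp embA
  | Sum.inr _ => A.L (Fin.last _)

/-- The representative of a simple reflection. -/
def n (r : SR k) : G := A.ℓ r wW

theorem ℓ_range (r : SR k) : A.Xp (srPR r) = rng (fun t => A.ℓ r (xU t)) := by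
  rcases r with a | u
  · rw [srPR, A.Xp_inl]
    refine congrArg rng (funext fun t => ?_)
    exact (A.ν_xU (castSucc_ne_succ a) t).symm
  · rw [srPR, A.Xp_inr_self]; rfl

theorem ℓ_mem {r : SR k} {x : G} (hx : x ∈ A.Xp (srPR r)) : ∃ t, x = A.ℓ r (xU t) := by
  rw [A.ℓ_range, rng] at hx
  induction hx using Subgroup.closure_induction with
  | mem x hx => obtain ⟨t, rfl⟩ := hx; exact ⟨t, rfl⟩
  | one => exact ⟨0, by simp [xU_zero]⟩
  | mul x y _ _ hx hy =>
    obtain ⟨s, rfl⟩ := hx; obtain ⟨t, rfl⟩ := hy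
    exact ⟨s + t, by rw [xU_add, map_mul]⟩
  | inv x _ hx =>
    obtain ⟨s, rfl⟩ := hx
    exact ⟨-s, inv_eq_of_mul_eq_one_right (by rw [← map_mul, ← xU_add, add_neg_cancel, xU_zero, map_one])⟩

theorem ν_embA (i j : Fin (k + 3)) (g : Matrix.SpecialLinearGroup (Fin 2) F) :
    A.ν i j (embA g) = A.ρ (mv2 i j * blk g * (mv2 i j)⁻¹) := by
  rw [ν_apply, A.glue, map_mul, map_mul, map_inv]

theorem n_mon (a : Fin (k + 2)) : ∃ m c, IsMon m (Equiv.swap a.castSucc a.succ) c ∧ A.n (Sum.inl a) = A.ρ m := by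
  have hm := isMon_monOf (F := F) (perm2 a.castSucc a.succ) 2
  have h := (hm.mul isMon_blk_wW).mul hm.inv
  rw [Equiv.mul_swap_eq_swap_mul, perm2_zero (castSucc_ne_succ a), perm2_one, mul_inv_cancel_right] at h
  exact ⟨_, _, h, A.ν_embA a.castSucc a.succ wW⟩

theorem act_n (r : SR k) : A.Act (A.n r) (srPerm r) := by
  rcases r with a | u
  · obtain ⟨m, c, hm, e⟩ := A.n_mon a
    rw [e]; exact A.act_mon hm
  · exact A.act_s _

theorem ℓ_hD_mem (r : SR k) (c : Fˣ) : A.ℓ r (hD c) ∈ A.H := by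
  rcases r with a | u
  · have hm := isMon_monOf (F := F) (perm2 a.castSucc a.succ) 2
    have h := (hm.mul (isMon_blk_hD (k := k) c)).mul hm.inv
    rw [mul_one, mul_inv_cancel] at h
    exact Subgroup.subset_closure (Or.inr ⟨_, _, h, A.ν_embA a.castSucc a.succ (hD c)⟩)
  · exact Subgroup.subset_closure (Or.inl ⟨_, c, rfl⟩)

theorem n_sq_mem (r : SR k) : A.n r * A.n r ∈ A.B := by
  rw [n, ← map_mul, wW_sq]; exact A.H_le_B (A.ℓ_hD_mem r _)

theorem n_conj_U' (r : SR k) {u : G} (hu : u ∈ A.U' r) : A.n r * u * (A.n r)⁻¹ ∈ A.U := by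
  have h : cnj (A.n r) (A.U' r) ≤ A.U := by
    rw [U', cnj_iSup]
    refine iSup_le fun ⟨p, hp⟩ => ?_
    obtain ⟨p', e | e⟩ := srPerm_pos r hp
    · simp only [Prod.mk.injEq] at e
      rw [Xp, (A.act_n r).2, e.1, e.2]; exact A.Xp_le_U p'
    · simp only [Prod.mk.injEq] at e
      rw [Xp, (A.act_n r).2, e.1, e.2, A.X_symm]; exact A.Xp_le_U p'
  exact h (mem_cnj hu)

theorem n_conj_H (r : SR k) {h : G} (hh' : h ∈ A.H) : A.n r * h * (A.n r)⁻¹ ∈ A.H := by
  rw [H] at hh'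
  induction hh' using Subgroup.closure_induction with
  | mem x hx =>
    rcases r with a | u
    · obtain ⟨m, c, hm, e⟩ := A.n_mon a
      rw [e]
      rcases hx with ⟨l, d, rfl⟩ | ⟨m', c', hm', rfl⟩
      · rw [hh, A.mon_L hm, conjD, dif_neg (hm.ne l), hD_inv, ← hD_mul, ← hD_mul]
        exact Subgroup.subset_closure (Or.inl ⟨_, _, rfl⟩)
      · have := (hm.mul hm').mul hm.inv
        rw [mul_one, mul_inv_cancel] at this
        exact Subgroup.subset_closure (Or.inr ⟨_, _, this, by rw [map_mul, map_mul, map_inv]⟩)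
    · rcases hx with ⟨l, d, rfl⟩ | ⟨m', c', hm', rfl⟩
      · show A.s _ * A.hh l d * (A.s _)⁻¹ ∈ A.H
        by_cases hl : l = Fin.last (k + 2)
        · subst hl
          rw [A.s_hh, mul_inv_cancel_right]
          exact Subgroup.subset_closure (Or.inl ⟨_, _, rfl⟩)
        · rw [show A.s (Fin.last (k + 2)) * A.hh l d = A.hh l d * A.s (Fin.last (k + 2)) from
            (A.L_comm (Ne.symm hl) _ _).eq, mul_inv_cancel_right]
          exact Subgroup.subset_closure (Or.inl ⟨_, _, rfl⟩)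
      · show A.s _ * A.ρ m' * (A.s _)⁻¹ ∈ A.H
        set z := Fin.last (k + 2)
        obtain ⟨d, hd⟩ := A.mon_s hm' z
        rw [Equiv.Perm.one_apply, mul_inv_eq_iff_eq_mul, mul_assoc] at hd
        have e2 : A.s z * A.ρ m' * (A.s z)⁻¹ = A.s z * (A.hh z d)⁻¹ * (A.s z)⁻¹ * A.ρ m' := by
          calc A.s z * A.ρ m' * (A.s z)⁻¹ = A.s z * (A.hh z d)⁻¹ * (A.s z)⁻¹ *
              (A.s z * (A.hh z d * A.ρ m')) * (A.s z)⁻¹ := by group
            _ = A.s z * (A.hh z d)⁻¹ * (A.s z)⁻¹ * (A.ρ m' * A.s z) * (A.s z)⁻¹ := by rw [← hd]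
            _ = _ := by group
        rw [show A.s z * (A.hh z d)⁻¹ * (A.s z)⁻¹ = (A.s z * A.hh z d * (A.s z)⁻¹)⁻¹ by group,
          A.s_hh, mul_inv_cancel_right] at e2
        rw [e2]
        exact mul_mem (inv_mem (Subgroup.subset_closure (Or.inl ⟨_, _, rfl⟩)))
          (Subgroup.subset_closure (Or.inr ⟨_, _, hm', rfl⟩))
  | one => simp
  | mul x y _ _ hx hy =>
    rw [show A.n r * (x * y) * (A.n r)⁻¹ = (A.n r * x * (A.n r)⁻¹) * (A.n r * y * (A.n r)⁻¹) by group]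
    exact mul_mem hx hy
  | inv x _ hx =>
    rw [show A.n r * x⁻¹ * (A.n r)⁻¹ = (A.n r * x * (A.n r)⁻¹)⁻¹ by group]
    exact inv_mem hx

theorem dec (r : SR k) : ∀ b ∈ A.B, ∃ b₁ ∈ A.B, ∃ x ∈ A.Xp (srPR r), A.n r * b = b₁ * A.n r * x := by
  intro b hb
  obtain ⟨u, hu, h, hh', rfl⟩ := exists_mul_of_mem_sup A.H_le_normalizer_U hb
  rw [A.U_eq r] at hu
  obtain ⟨u', hu', x, hx, rfl⟩ := exists_mul_of_mem_sup (A.Xp_le_normalizer_U' r) hu
  refine ⟨(A.n r * u' * (A.n r)⁻¹) * (A.n r * h * (A.n r)⁻¹),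
    mul_mem (A.U_le_B (A.n_conj_U' r hu')) (A.H_le_B (A.n_conj_H r hh')), h⁻¹ * x * h, ?_, by group⟩
  have := mem_cnj (g := h⁻¹) hx
  rwa [A.H_fix (inv_mem hh'), inv_inv] at this

theorem rank (r : SR k) : ∀ x ∈ A.Xp (srPR r), x ≠ 1 →
    ∃ b₁ ∈ A.B, ∃ x' ∈ A.Xp (srPR r), A.n r * x = b₁ * (A.n r * x' * (A.n r)⁻¹) := by
  intro x hx hne
  obtain ⟨t, rfl⟩ := A.ℓ_mem hx
  have ht : t ≠ 0 := fun e => hne (by rw [e, xU_zero, map_one])
  refine ⟨A.ℓ r (hD (Units.mk0 (-t⁻¹) (neg_ne_zero.2 (inv_ne_zero ht))) * xU (-t)), ?_, A.ℓ r (xU (-t⁻¹)), ?_, ?_⟩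
  · rw [map_mul]
    exact mul_mem (A.H_le_B (A.ℓ_hD_mem r _)) (A.U_le_B (A.Xp_le_U _ (by rw [A.ℓ_range]; exact mem_rng _ _)))
  · rw [A.ℓ_range]; exact mem_rng _ _
  · rw [n, ← map_mul, wW_mul_xU ht]
    simp only [map_mul, map_inv]

theorem pos_or_neg (u v : SI k) (h : u.1 = v.1 → u.2 = v.2) :
    A.X u v ≤ A.U ∨ A.X (bar u) (bar v) ≤ A.U := by
  obtain ⟨i, a⟩ := u
  obtain ⟨j, b⟩ := v
  rcases a <;> rcases b
  · exact Or.inl (A.Xp_le_U (Sum.inr (i, j)))
  · have hij : i ≠ j := fun e => Bool.false_ne_true (h e)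
    rcases lt_or_gt_of_ne hij with hl | hl
    · exact Or.inl (A.Xp_le_U (Sum.inl ⟨(i, j), hl⟩))
    · refine Or.inr ?_
      rw [A.X_symm]
      exact A.Xp_le_U (Sum.inl ⟨(j, i), hl⟩)
  · have hij : i ≠ j := fun e => Bool.false_ne_true (h e).symm
    rcases lt_or_gt_of_ne hij with hl | hl
    · exact Or.inr (A.Xp_le_U (Sum.inl ⟨(i, j), hl⟩))
    · refine Or.inl ?_
      rw [A.X_symm]
      exact A.Xp_le_U (Sum.inl ⟨(j, i), hl⟩)
  · exact Or.inr (A.Xp_le_U (Sum.inr (i, j)))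

theorem side (r : SR k) {w : G} {f : Equiv.Perm (SI k)} (hw : A.Act w f) :
    (∀ x ∈ A.Xp (srPR r), w⁻¹ * x * w ∈ A.B) ∨
      (∀ x ∈ A.Xp (srPR r), w⁻¹ * (A.n r * x * (A.n r)⁻¹) * w ∈ A.B) := by
  have hi := Act.inv A hw
  set u := (prSI (srPR r)).1
  set v := (prSI (srPR r)).2
  have hval : (f⁻¹ u).1 = (f⁻¹ v).1 → (f⁻¹ u).2 = (f⁻¹ v).2 := by
    intro e
    by_contra hne
    have hb : f⁻¹ u = bar (f⁻¹ v) := Prod.ext e (by revert hne; simp only [bar]; cases (f⁻¹ u).2 <;> cases (f⁻¹ v).2 <;> simp)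
    rw [← hi.1] at hb
    have := (f⁻¹).injective hb
    rcases r with a | _
    · have := congrArg Prod.fst this
      exact castSucc_ne_succ a this
    · have := congrArg Prod.snd this
      simp [u, v, prSI, srPR, bar] at this
  rcases A.pos_or_neg _ _ hval with h | h
  · refine Or.inl fun x hx => A.U_le_B (h ?_)
    rw [← hi.2]
    have := mem_cnj (g := w⁻¹) hx
    rwa [inv_inv] at this
  · refine Or.inr fun x hx => A.U_le_B (h ?_)
    have h1 : A.n r * x * (A.n r)⁻¹ ∈ A.X (bar u) (bar v) := by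
      have := mem_cnj (g := A.n r) hx
      rw [Xp, (A.act_n r).2] at this
      rcases srPerm_simple r with ⟨e1, e2⟩ | ⟨e1, e2⟩
      · rwa [e1, e2] at this
      · rw [A.X_symm]; rwa [e1, e2] at this
    rw [← hi.1, ← hi.1, ← hi.2]
    have := mem_cnj (g := w⁻¹) h1
    rwa [inv_inv] at this

end Amalgam

end CfsgLib.SpnPres
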