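import Cfsg.Agent.SpnPres.Amalgam

/-!
# The root subgroups, with signed indices
-/

set_option autoImplicit false

namespace CfsgLib.SpnPres

open Matrix CfsgLib.SL2Pres CfsgLib.SLnPres CfsgLib.Sp4Pres

variable {G F : Type*} [Group G] [Field F] {k : ℕ}

/-- The conjugate of a subgroup. -/
def cnj (g : G) (H : Subgroup G) : Subgroup G := H.map (MulAut.conj g).toMonoidHom

theorem cnj_mul (g g' : G) (H : Subgroup G) : cnj (g * g') H = cnj g (cnj g' H) := by
  rw [cnj, cnj, cnj, Subgroup.map_map]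
  congr 1
  ext x; simp [mul_assoc]

theorem cnj_one (H : Subgroup G) : cnj 1 H = H := by
  rw [cnj]
  ext x; simp

theorem cnj_bot (g : G) : cnj g ⊥ = (⊥ : Subgroup G) := Subgroup.map_bot _

theorem mem_cnj {g x : G} {H : Subgroup G} (h : x ∈ H) : g * x * g⁻¹ ∈ cnj g H :=
  ⟨x, h, rfl⟩

/-- The subgroup generated by the values. -/
def rng (f : F → G) : Subgroup G := Subgroup.closure (Set.range f)

theorem mem_rng (f : F → G) (t : F) : f t ∈ rng f := Subgroup.subset_closure ⟨t, rfl⟩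

theorem rng_le {f : F → G} {H : Subgroup G} (h : ∀ t, f t ∈ H) : rng f ≤ H := by
  rw [rng, Subgroup.closure_le]; rintro _ ⟨t, rfl⟩; exact h t

theorem cnj_rng (g : G) (f : F → G) : cnj g (rng f) = rng (fun t => g * f t * g⁻¹) := by
  rw [cnj, rng, rng, MonoidHom.map_closure, ← Set.range_comp]; rfl

theorem rng_scale {f f' : F → G} (a : F) (ha : a ≠ 0) (h : ∀ t, f t = f' (a * t)) : rng f = rng f' := by
  rw [rng, rng]
  congr 1
  ext x
  constructor
  · rintro ⟨t, rfl⟩; exact ⟨a * t, (h t).symm⟩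
  · rintro ⟨t, rfl⟩; exact ⟨a⁻¹ * t, by rw [h, mul_inv_cancel_left₀ ha]⟩

theorem cnj_rng_fix {g : G} {f : F → G} (a : F) (ha : a ≠ 0) (h : ∀ t, g * f t * g⁻¹ = f (a * t)) :
    cnj g (rng f) = rng f := by
  rw [cnj_rng]; exact rng_scale a ha h

theorem cnj_rng_comm {g : G} {f : F → G} (h : ∀ t, Commute g (f t)) : cnj g (rng f) = rng f :=
  cnj_rng_fix 1 one_ne_zero fun t => by rw [(h t).eq, mul_inv_cancel_right, one_mul]

/-- A signed index; `true` is negative. -/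
abbrev SI (k : ℕ) := Fin (k + 3) × Bool

/-- The opposite signed index. -/
def bar (u : SI k) : SI k := (u.1, !u.2)

theorem hD_conj_xD (c : Fˣ) (t : F) :
    hD c * xD t * (hD c)⁻¹ = xD (((c⁻¹ : Fˣ) : F) * t * ((c⁻¹ : Fˣ) : F)) := by
  have h := conjD_xD c.ne_zero t
  rw [conjD, dif_neg c.ne_zero, Units.mk0_val] at h
  rw [h, Units.val_inv_eq_inv_val]

namespace Amalgam

variable (A : Amalgam G F k)

/-- The sign change at `i`. -/
def s (i : Fin (k + 3)) : G := A.L i wW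

/-- The torus at `i`. -/
def hh (i : Fin (k + 3)) (c : Fˣ) : G := A.L i (hD c)

theorem s_sq (i : Fin (k + 3)) : A.s i * A.s i = A.hh i (-1) := by
  rw [s, hh, ← map_mul, wW_sq]

theorem s_hh (i : Fin (k + 3)) (c : Fˣ) : A.s i * A.hh i c = A.hh i c⁻¹ * A.s i := by
  rw [s, hh, hh, ← map_mul, ← map_mul, ← hD_inv, ← wW_hD, inv_mul_cancel_right]

/-- The root group of `e_i − e_j`. -/
def XA (i j : Fin (k + 3)) : Subgroup G := rng fun t => A.ρ (tv i j t)

/-- The long root group of `2 e_i` or its negative. -/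
def XL (i : Fin (k + 3)) (neg : Bool) : Subgroup G :=
  rng fun t => A.L i (if neg then xD t else xU t)

/-- The sign change needed at a first index. -/
def P (u : SI k) : G := if u.2 then A.s u.1 else 1

/-- The sign change needed at a second index. -/
def Q (v : SI k) : G := if v.2 then 1 else A.s v.1

/-- The root group of `±e_i ± e_j`. -/
def X (u v : SI k) : Subgroup G :=
  if u.1 = v.1 then (if u.2 = v.2 then A.XL u.1 u.2 else ⊥) else cnj (A.P u * A.Q v) (A.XA u.1 v.1)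

theorem X_ne {u v : SI k} (h : u.1 ≠ v.1) : A.X u v = cnj (A.P u * A.Q v) (A.XA u.1 v.1) := if_neg h

theorem X_self (u : SI k) : A.X u u = A.XL u.1 u.2 := by rw [X, if_pos rfl, if_pos rfl]

theorem s_comm {i j : Fin (k + 3)} (h : i ≠ j) : Commute (A.s i) (A.s j) := A.L_comm h _ _

theorem s_fix_XA {l i j : Fin (k + 3)} (hij : i ≠ j) (hi : l ≠ i) (hj : l ≠ j) :
    cnj (A.s l) (A.XA i j) = A.XA i j :=
  cnj_rng_comm fun t => A.L_comm_tv hij hi hj _ t

theorem hh_fix_XA {i j : Fin (k + 3)} (hij : i ≠ j) (l : Fin (k + 3)) (c : Fˣ) :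
    cnj (A.hh l c) (A.XA i j) = A.XA i j := by
  by_cases hi : l = i
  · subst hi
    refine cnj_rng_fix (c : F) c.ne_zero fun t => ?_
    rw [hh, ← A.ν_long0 hij, ← A.ν_xU hij, ← A.ν_xU hij, ← map_inv, ← map_mul, ← map_mul, hC_xa]
  by_cases hj : l = j
  · subst hj
    refine cnj_rng_fix ((c⁻¹ : Fˣ) : F) (Units.ne_zero _) fun t => ?_
    rw [hh, ← A.ν_long0 hij.symm, ← A.ν_xD hij.symm, ← A.ν_xD hij.symm, ← map_inv, ← map_mul, ← map_mul, hC_xD]
  exact cnj_rng_comm fun t => A.L_comm_tv hij hi hj _ t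

theorem sym_BB {i j : Fin (k + 3)} (h : i ≠ j) : cnj (A.s j) (A.XA i j) = cnj (A.s i) (A.XA j i) := by
  have e1 : cnj (A.s j) (A.XA i j) = rng fun t => A.ν i j (xAB t) := by
    rw [XA, cnj_rng]
    refine rng_scale (-1) (neg_ne_zero.2 one_ne_zero) fun t => ?_
    rw [← wB_xa, embB_eq_long, map_mul, map_mul, map_inv, A.ν_long1, A.ν_xU h, neg_one_mul, neg_neg]
    rfl
  have e2 : cnj (A.s i) (A.XA j i) = rng fun t => A.ν i j (xAB t) := by
    rw [XA, cnj_rng]
    refine rng_scale (-1) (neg_ne_zero.2 one_ne_zero) fun t => ?_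
    rw [neg_one_mul, ← wC_xD, map_mul, map_mul, map_inv, A.ν_long0 h, A.ν_xD h]
    rfl
  rw [e1, e2]

theorem sym_mixed {i j : Fin (k + 3)} (h : i ≠ j) : cnj (A.s i * A.s j) (A.XA i j) = A.XA j i := by
  rw [cnj_mul, A.sym_BB h, ← cnj_mul, A.s_sq, A.hh_fix_XA h.symm]

theorem X_symm (u v : SI k) : A.X u v = A.X v u := by
  by_cases h : u.1 = v.1
  · rw [X, X, if_pos h, if_pos h.symm, h]
    by_cases h2 : u.2 = v.2
    · rw [if_pos h2, if_pos h2.symm, h2]
    · rw [if_neg h2, if_neg (Ne.symm h2)]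
  rw [A.X_ne h, A.X_ne (Ne.symm h)]
  obtain ⟨i, a⟩ := u
  obtain ⟨j, b⟩ := v
  rcases a <;> rcases b <;> simp only [P, Q, if_true, Bool.false_eq_true, if_false, one_mul, mul_one]
  · exact A.sym_BB h
  · rw [cnj_one, A.sym_mixed (Ne.symm h)]
  · rw [cnj_one, A.sym_mixed h]
  · show cnj (A.s i) (A.XA i j) = cnj (A.s j) (A.XA j i)
    conv_rhs => rw [← A.sym_mixed h, ← cnj_mul, ← mul_assoc, (A.s_comm h).symm.eq, mul_assoc, A.s_sq, cnj_mul,
      A.hh_fix_XA h]

/-- The action of `w` on root groups through a permutation of signed indices. -/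
def Act (w : G) (f : Equiv.Perm (SI k)) : Prop :=
  (∀ u, f (bar u) = bar (f u)) ∧ ∀ u v, cnj w (A.X u v) = A.X (f u) (f v)

theorem Act.one : A.Act 1 1 := ⟨fun _ => rfl, fun u v => cnj_one _⟩

theorem Act.mul {w w' : G} {f f' : Equiv.Perm (SI k)} (h : A.Act w f) (h' : A.Act w' f') :
    A.Act (w * w') (f * f') :=
  ⟨fun u => by simp [Equiv.Perm.mul_apply, h'.1, h.1], fun u v => by
    rw [cnj_mul, h'.2, h.2]; rfl⟩

theorem Act.inv {w : G} {f : Equiv.Perm (SI k)} (h : A.Act w f) : A.Act w⁻¹ f⁻¹ := by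
  refine ⟨fun u => f.injective ?_, fun u v => ?_⟩
  · rw [h.1, Equiv.Perm.inv_def, Equiv.apply_symm_apply, Equiv.apply_symm_apply]
  · have := h.2 (f⁻¹ u) (f⁻¹ v)
    simp only [Equiv.Perm.inv_def, Equiv.apply_symm_apply] at this ⊢
    rw [← this, ← cnj_mul, inv_mul_cancel, cnj_one]

theorem hh_P (l : Fin (k + 3)) (c : Fˣ) (u : SI k) : ∃ c', A.hh l c * A.P u = A.P u * A.hh l c' := by
  rw [P]
  split_ifs
  · by_cases hl : l = u.1
    · subst hl
      exact ⟨c⁻¹, by rw [A.s_hh, inv_inv]⟩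
    · exact ⟨c, (A.L_comm hl _ _).eq⟩
  · exact ⟨c, by simp⟩

theorem hh_Q (l : Fin (k + 3)) (c : Fˣ) (v : SI k) : ∃ c', A.hh l c * A.Q v = A.Q v * A.hh l c' := by
  rw [Q]
  split_ifs
  · exact ⟨c, by simp⟩
  · by_cases hl : l = v.1
    · subst hl
      exact ⟨c⁻¹, by rw [A.s_hh, inv_inv]⟩
    · exact ⟨c, (A.L_comm hl _ _).eq⟩

theorem hh_fix_XL (l i : Fin (k + 3)) (c : Fˣ) (b : Bool) : cnj (A.hh l c) (A.XL i b) = A.XL i b := by
  by_cases hl : l = i
  · subst hl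
    cases b
    · refine cnj_rng_fix ((c : F) ^ 2) (pow_ne_zero 2 c.ne_zero) fun t => ?_
      simp only [Bool.false_eq_true, if_false, hh, ← map_inv, ← map_mul, hD_xU]
    · refine cnj_rng_fix (((c⁻¹ : Fˣ) : F) ^ 2) (pow_ne_zero 2 (Units.ne_zero _)) fun t => ?_
      simp only [if_true, hh, ← map_inv, ← map_mul, hD_conj_xD]
      congr 2
      ring
  · exact cnj_rng_comm fun t => A.L_comm hl _ _

theorem act_hh (l : Fin (k + 3)) (c : Fˣ) : A.Act (A.hh l c) 1 := by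
  refine ⟨fun _ => rfl, fun u v => ?_⟩
  show _ = A.X u v
  by_cases h : u.1 = v.1
  · rw [X, if_pos h]
    split_ifs
    · exact A.hh_fix_XL _ _ _ _
    · exact cnj_bot _
  · obtain ⟨c₁, e₁⟩ := A.hh_P l c u
    obtain ⟨c₂, e₂⟩ := A.hh_Q l c₁ v
    rw [A.X_ne h, ← cnj_mul, ← mul_assoc, e₁, mul_assoc, e₂, ← mul_assoc, cnj_mul _ (A.hh l c₂), A.hh_fix_XA h]

/-- Changing the sign at `l`. -/
def tog (l : Fin (k + 3)) : Equiv.Perm (SI k) where
  toFun u := if u.1 = l then bar u else u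
  invFun u := if u.1 = l then bar u else u
  left_inv u := by by_cases h : u.1 = l <;> simp [h, bar]; simp [← h]
  right_inv u := by by_cases h : u.1 = l <;> simp [h, bar]; simp [← h]

theorem tog_apply (l : Fin (k + 3)) (u : SI k) : tog l u = if u.1 = l then bar u else u := rfl

theorem tog_fst (l : Fin (k + 3)) (u : SI k) : (tog l u).1 = u.1 := by
  rw [tog_apply]; split_ifs <;> rfl

theorem s_P (l : Fin (k + 3)) (u : SI k) :
    ∃ h : G, (h = 1 ∨ ∃ c, h = A.hh l c) ∧ A.s l * A.P u =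
      A.P (tog l u) * (if u.1 = l then h else A.s l) := by
  obtain ⟨i, a⟩ := u
  by_cases hl : i = l
  · subst hl
    cases a
    · exact ⟨1, Or.inl rfl, by simp [P, tog_apply, bar]⟩
    · exact ⟨A.hh i (-1), Or.inr ⟨_, rfl⟩, by simp [P, tog_apply, bar, A.s_sq]⟩
  · refine ⟨1, Or.inl rfl, ?_⟩
    simp only [P, tog_apply, if_neg hl]
    split_ifs
    · exact (A.s_comm (Ne.symm hl)).eq
    · rw [mul_one, one_mul]

theorem act_s (l : Fin (k + 3)) : A.Act (A.s l) (tog l) := by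
  refine ⟨fun u => ?_, fun u v => ?_⟩
  · obtain ⟨i, a⟩ := u
    simp only [tog_apply, bar]
    split_ifs <;> rfl
  by_cases h : u.1 = v.1
  · obtain ⟨i, a⟩ := u
    obtain ⟨j, b⟩ := v
    obtain rfl : i = j := h
    by_cases hl : i = l
    · subst hl
      rcases a <;> rcases b <;> simp [X, tog_apply, bar, cnj_bot]
      · rw [XL, XL, cnj_rng]
        refine rng_scale (-1) (neg_ne_zero.2 one_ne_zero) fun t => ?_
        simp only [Bool.false_eq_true, if_false, if_true, s, ← map_inv, ← map_mul, wW_conj_xU, neg_one_mul]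
      · rw [XL, XL, cnj_rng]
        refine rng_scale (-1) (neg_ne_zero.2 one_ne_zero) fun t => ?_
        simp only [Bool.false_eq_true, if_false, if_true, s, ← map_inv, ← map_mul, wW_conj_xD, neg_one_mul]
    · simp only [X, tog_apply, if_neg hl, if_true]
      split_ifs
      · exact cnj_rng_comm fun t => A.L_comm (Ne.symm hl) _ _
      · exact cnj_bot _
  · rw [A.X_ne h, A.X_ne (by rwa [tog_fst, tog_fst]), tog_fst, tog_fst, ← cnj_mul, ← mul_assoc]
    by_cases hu : u.1 = l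
    · obtain ⟨g, hg, e⟩ := A.s_P l u
      rw [if_pos hu] at e
      have hv : v.1 ≠ l := fun e => h (hu.trans e.symm)
      rw [e, show tog l v = v by rw [tog_apply, if_neg hv], mul_assoc]
      rcases hg with rfl | ⟨c, rfl⟩
      · rw [one_mul]
      · obtain ⟨c', ec⟩ := A.hh_Q l c v
        rw [ec, ← mul_assoc, cnj_mul _ (A.hh l c'), A.hh_fix_XA h]
    · obtain ⟨g, -, e⟩ := A.s_P l u
      rw [if_neg hu] at e
      rw [e, mul_assoc]
      obtain ⟨j, b⟩ := v
      by_cases hv : j = l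
      · subst hv
        cases b
        · simp only [Q, tog_apply, bar, Bool.false_eq_true, if_false, Bool.not_false, if_true, A.s_sq, mul_one]
          rw [cnj_mul, A.hh_fix_XA h]
        · simp only [Q, tog_apply, bar, Bool.not_true, Bool.false_eq_true, if_false, if_true, mul_one]
      · simp only [Q, tog_apply, if_neg hv]
        split_ifs
        · rw [mul_one, mul_one, cnj_mul, A.s_fix_XA h (Ne.symm hu) (Ne.symm hv)]
        · rw [(A.s_comm (Ne.symm hv)).eq, ← mul_assoc, cnj_mul _ (A.s l), A.s_fix_XA h (Ne.symm hu) (Ne.symm hv)]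

theorem mon_s {m : Matrix.SpecialLinearGroup (Fin (k + 3)) F} {π : Equiv.Perm (Fin (k + 3))} {c : Fin (k + 3) → F}
    (h : IsMon m π c) (i : Fin (k + 3)) :
    ∃ d, A.ρ m * A.s i * (A.ρ m)⁻¹ = A.s (π i) * A.hh (π i) d := by
  exact ⟨_, by rw [s, A.mon_L h, conjD_wW (h.ne i), map_mul]; rfl⟩

theorem act_mon {m : Matrix.SpecialLinearGroup (Fin (k + 3)) F} {π : Equiv.Perm (Fin (k + 3))} {c : Fin (k + 3) → F}
    (h : IsMon m π c) : A.Act (A.ρ m) (π.prodCongr (Equiv.refl Bool)) := by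
  refine ⟨fun u => rfl, fun u v => ?_⟩
  by_cases hi : u.1 = v.1
  · obtain ⟨i, a⟩ := u
    obtain ⟨j, b⟩ := v
    obtain rfl : i = j := hi
    simp only [X, Equiv.prodCongr_apply, Prod.map_apply, Equiv.coe_refl, id, if_true]
    split_ifs
    · rw [XL, XL, cnj_rng]
      have hc := h.ne i
      cases a
      · refine rng_scale (c i * c i) (mul_ne_zero hc hc) fun t => ?_
        simp only [Bool.false_eq_true, if_false, A.mon_L h, conjD_xU hc]
        congr 2; ring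
      · refine rng_scale ((c i)⁻¹ * (c i)⁻¹) (mul_ne_zero (inv_ne_zero hc) (inv_ne_zero hc)) fun t => ?_
        simp only [if_true, A.mon_L h, conjD_xD hc]
        congr 2; ring
    · exact cnj_bot _
  · have hA : cnj (A.ρ m) (A.XA u.1 v.1) = A.XA (π u.1) (π v.1) := by
      rw [XA, XA, cnj_rng]
      refine rng_scale (c u.1 * (c v.1)⁻¹) (mul_ne_zero (h.ne _) (inv_ne_zero (h.ne _))) fun t => ?_
      rw [← map_inv, ← map_mul, ← map_mul, h.mul_tv hi]
      congr 2; ring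
    set u' := (π.prodCongr (Equiv.refl Bool)) u with hu'
    set v' := (π.prodCongr (Equiv.refl Bool)) v with hv'
    have h' : u'.1 ≠ v'.1 := π.injective.ne hi
    have hP : ∃ g, (g = 1 ∨ ∃ d, g = A.hh u'.1 d) ∧ A.ρ m * A.P u * (A.ρ m)⁻¹ = A.P u' * g := by
      obtain ⟨i, a⟩ := u
      cases a
      · exact ⟨1, Or.inl rfl, by simp [P, u']⟩
      · obtain ⟨d, hd⟩ := A.mon_s h i
        exact ⟨_, Or.inr ⟨d, rfl⟩, by simpa [P, u'] using hd⟩
    have hQ : ∃ g, (g = 1 ∨ ∃ d, g = A.hh v'.1 d) ∧ A.ρ m * A.Q v * (A.ρ m)⁻¹ = A.Q v' * g := by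
      obtain ⟨j, b⟩ := v
      cases b
      · obtain ⟨d, hd⟩ := A.mon_s h j
        exact ⟨_, Or.inr ⟨d, rfl⟩, by simpa [Q, v'] using hd⟩
      · exact ⟨1, Or.inl rfl, by simp [Q, v']⟩
    obtain ⟨g₁, hg₁, e₁⟩ := hP
    obtain ⟨g₂, hg₂, e₂⟩ := hQ
    have hfix : ∀ g : G, (g = 1 ∨ ∃ l d, g = A.hh l d) → cnj g (A.XA u'.1 v'.1) = A.XA u'.1 v'.1 := by
      rintro g (rfl | ⟨l, d, rfl⟩)
      · exact cnj_one _
      · exact A.hh_fix_XA h' _ _
    have hswap : Commute g₁ (A.Q v') := by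
      rcases hg₁ with rfl | ⟨d, rfl⟩
      · exact Commute.one_left _
      · rw [Q]; split_ifs
        · exact Commute.one_right _
        · exact A.L_comm h' _ _
    rw [A.X_ne hi, A.X_ne h', ← cnj_mul,
      show A.ρ m * (A.P u * A.Q v) = (A.ρ m * A.P u * (A.ρ m)⁻¹) * (A.ρ m * A.Q v * (A.ρ m)⁻¹) * A.ρ m by group,
      e₁, e₂, cnj_mul, hA, show A.P u' * g₁ * (A.Q v' * g₂) = A.P u' * A.Q v' * (g₁ * g₂) by
        rw [mul_assoc (A.P u'), ← mul_assoc g₁, hswap.eq]; group,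
      cnj_mul _ (g₁ * g₂), cnj_mul g₁]
    change cnj (A.P u' * A.Q v') (cnj g₁ (cnj g₂ (A.XA u'.1 v'.1))) = _
    rw [hfix g₂ (hg₂.imp_right fun ⟨d, e⟩ => ⟨_, d, e⟩), hfix g₁ (hg₁.imp_right fun ⟨d, e⟩ => ⟨_, d, e⟩)]

end Amalgam

end CfsgLib.SpnPres
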